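import Mathlib
import Cfsg.Agent.TwoF.Gen.ACod

/-!
# TwoF, G6 (part 1): a group that permutes an independent family of subspaces (helper14)
-/

set_option autoImplicit false
set_option linter.unusedSectionVars false

namespace Cfsg.Agent.TwoF.Gen

open Module

variable {k : Type*} [Field k] {Y : Type*} [Group Y] {V : Type*} [AddCommGroup V] [Module k V]
  {ρ : Representation k Y V} {ι : Type*}

/-- components of a fixed vector -/
theorem comp_eq {W : ι → Submodule k V} (hW : iSupIndep W) {f : V →ₗ[k] V} {σ : ι → ι}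
    (hσ : Function.Injective σ) (hf : ∀ i, ∀ v ∈ W i, f v ∈ W (σ i)) (S : Finset ι) (c : ι → V)
    (hc : ∀ i, c i ∈ W i) (h0 : ∀ i ∉ S, c i = 0) (hfix : f (∑ i ∈ S, c i) = ∑ i ∈ S, c i) (i : ι) :
    f (c i) = c (σ i) := by
  classical
  have hS : ∑ j ∈ insert i (insert (σ i) S), c j = ∑ j ∈ S, c j :=
    (Finset.sum_subset (fun j hj => by simp [hj]) fun j _ hj => h0 j hj).symm
  rw [← hS, map_sum] at hfix
  have h1 := Finset.add_sum_erase (insert i (insert (σ i) S)) (fun j => f (c j)) (a := i) (by simp)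
  have h2 := Finset.add_sum_erase (insert i (insert (σ i) S)) c (a := σ i) (by simp)
  have h3 : f (c i) - c (σ i) = ∑ j ∈ (insert i (insert (σ i) S)).erase (σ i), c j -
      ∑ j ∈ (insert i (insert (σ i) S)).erase i, f (c j) := by
    rw [sub_eq_sub_iff_add_eq_add, h1, add_comm, h2, hfix]
  have h4 : f (c i) - c (σ i) ∈ ⨆ j ≠ σ i, W j := by
    rw [h3]
    refine sub_mem (Submodule.sum_mem _ fun j hj => ?_) (Submodule.sum_mem _ fun j hj => ?_)
    · exact Submodule.mem_iSup_of_mem j (Submodule.mem_iSup_of_mem (Finset.ne_of_mem_erase hj) (hc j))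
    · exact Submodule.mem_iSup_of_mem (σ j) (Submodule.mem_iSup_of_mem
        (fun e => Finset.ne_of_mem_erase hj (hσ e)) (hf j _ (hc j)))
  exact sub_eq_zero.1 (Submodule.disjoint_def.1 (hW (σ i)) _ (sub_mem (hf i _ (hc i)) (hc _)) h4)

theorem exists_comp {W : ι → Submodule k V} (S : Finset ι) {v : V} (hv : v ∈ ⨆ i ∈ S, W i) :
    ∃ c : ι → V, (∀ i, c i ∈ W i) ∧ (∀ i ∉ S, c i = 0) ∧ ∑ i ∈ S, c i = v := by
  classical
  obtain ⟨μ, hμ⟩ := (Submodule.mem_iSup_finset_iff_exists_sum W v).1 hv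
  refine ⟨fun i => if i ∈ S then μ i else 0, fun i => ?_, fun i hi => if_neg hi, ?_⟩
  · show (if i ∈ S then (μ i : V) else 0) ∈ W i
    split_ifs
    · exact (μ i).2
    · exact zero_mem _
  · rw [← hμ]
    exact Finset.sum_congr rfl fun i hi => if_pos hi

variable [FiniteDimensional k V]

theorem finrank_biSup_of_indep {W : ι → Submodule k V} (hW : iSupIndep W) (S : Finset ι) :
    finrank k ↥(⨆ i ∈ S, W i) = ∑ i ∈ S, finrank k (W i) := by
  classical
  induction S using Finset.induction_on with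
  | empty => simp
  | insert a s ha ih =>
    rw [Finset.sum_insert ha, Finset.iSup_insert, ← ih]
    have h1 := Submodule.finrank_sup_add_finrank_inf_eq (W a) (⨆ i ∈ s, W i)
    have h2 : W a ⊓ (⨆ i ∈ s, W i) = ⊥ := disjoint_iff.1 (hW.disjoint_biSup (y := (s : Set ι)) ha)
    rw [h2, finrank_bot, add_zero] at h1
    exact h1

theorem sum_finrank_le_of_indep {W : ι → Submodule k V} (hW : iSupIndep W) (S : Finset ι) {U : Submodule k V}
    (hU : ∀ i ∈ S, W i ≤ U) : ∑ i ∈ S, finrank k (W i) ≤ finrank k U := by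
  rw [← finrank_biSup_of_indep hW]
  exact Submodule.finrank_mono (iSup₂_le hU)

theorem finrank_le_codOn {D U : Submodule k V} {B : Subgroup Y} (hD : D ≤ U) (h : D ⊓ fx ρ B = ⊥) :
    finrank k D ≤ codOn ρ U B := by
  have h1 := codOn_mono (ρ := ρ) hD (le_refl B)
  rwa [codOn_of_inf_eq_bot h] at h1

theorem exists_compl_fx (W : Submodule k V) (B : Subgroup Y) :
    ∃ C ≤ W, C ⊓ fx ρ B = ⊥ ∧ finrank k C = codOn ρ W B := by
  obtain ⟨q, hq⟩ := Submodule.exists_isCompl (W ⊓ fx ρ B)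
  have h1 : (W ⊓ fx ρ B) ⊓ (q ⊓ W) = ⊥ := by
    rw [← inf_assoc, hq.inf_eq_bot, bot_inf_eq]
  have h2 : (W ⊓ fx ρ B) ⊔ (q ⊓ W) = W := by
    rw [← sup_inf_assoc_of_le _ inf_le_left, hq.sup_eq_top, top_inf_eq]
  have h3 := Submodule.finrank_sup_add_finrank_inf_eq (W ⊓ fx ρ B) (q ⊓ W)
  rw [h1, h2, finrank_bot] at h3
  have h4 := codOn_add (ρ := ρ) W B
  refine ⟨q ⊓ W, inf_le_right, ?_, by omega⟩
  rw [eq_bot_iff, ← h1]
  exact fun v hv => ⟨⟨hv.1.2, hv.2⟩, hv.1⟩

/-- **G6, abstract form.** `A` permutes the independent subspaces `W i`; `X` contains no orbit; `B t` fixes `t`. -/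
theorem sum_le_codOn_of_perm {W : ι → Submodule k V} (hW : iSupIndep W) {A : Subgroup Y} (σ : A → ι → ι)
    (hinj : ∀ a, Function.Injective (σ a)) (hσ : ∀ (a : A) (i : ι), ∀ v ∈ W i, ρ a v ∈ W (σ a i))
    (X T : Finset ι) (hXT : Disjoint X T) (hX : ∀ i ∈ X, ∃ a, σ a i ∉ X) (B : ι → Subgroup Y)
    (hB : ∀ t ∈ T, ∀ b ∈ B t, ∃ hb : b ∈ A, σ ⟨b, hb⟩ t = t) {U : Submodule k V}
    (hU : ∀ i, i ∈ X ∨ i ∈ T → W i ≤ U) :
    ∑ i ∈ X, finrank k (W i) + ∑ t ∈ T, codOn ρ (W t) (B t) ≤ codOn ρ U A := by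
  classical
  choose C hC1 hC2 hC3 using fun i => exists_compl_fx (ρ := ρ) (W i) (B i)
  let E : ι → Submodule k V := fun i => if i ∈ X then W i else C i
  have hE : ∀ i, E i ≤ W i := fun i => by
    show (if i ∈ X then W i else C i) ≤ W i
    split_ifs
    · exact le_rfl
    · exact hC1 i
  have hEX : ∀ i ∈ X, E i = W i := fun i hi => if_pos hi
  have hET : ∀ i ∈ T, E i = C i := fun i hi => if_neg fun h => Finset.disjoint_left.1 hXT h hi
  have h1 := finrank_biSup_of_indep (hW.mono hE) (X ∪ T)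
  rw [Finset.sum_union hXT, Finset.sum_congr rfl fun i hi => congrArg (fun Z : Submodule k V => finrank k Z) (hEX i hi),
    Finset.sum_congr rfl fun i hi => (congrArg (fun Z : Submodule k V => finrank k Z) (hET i hi)).trans (hC3 i)] at h1
  rw [← h1]
  refine finrank_le_codOn (iSup₂_le fun i hi => (hE i).trans (hU i (Finset.mem_union.1 hi))) ?_
  rw [eq_bot_iff]
  rintro v ⟨hv, hfix⟩
  obtain ⟨c, hc, h0, rfl⟩ := exists_comp (X ∪ T) hv
  have hk := fun a : A => comp_eq hW (hinj a) (hσ a) (X ∪ T) c (fun i => hE i (hc i)) h0 (hfix a a.2)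
  have hT : ∀ t ∈ T, c t = 0 := by
    intro t ht
    refine (Submodule.mem_bot k).1 (hC2 t ▸ ⟨hET t ht ▸ hc t, fun b hb => ?_⟩)
    obtain ⟨hb', e⟩ := hB t ht b hb
    have := hk ⟨b, hb'⟩ t
    rwa [e] at this
  have hX' : ∀ i ∈ X, c i = 0 := by
    intro i hi
    obtain ⟨a, ha⟩ := hX i hi
    have h2 : c (σ a i) = 0 := by
      by_cases h3 : σ a i ∈ T
      · exact hT _ h3
      · exact h0 _ fun h4 => (Finset.mem_union.1 h4).elim ha h3
    apply rho_injective ρ a
    rw [hk a i, h2, map_zero]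
  rw [Submodule.mem_bot]
  exact Finset.sum_eq_zero fun i hi => (Finset.mem_union.1 hi).elim (hX' i) (hT i)

/-- the case without stabilisers -/
theorem sum_finrank_le_codOn_of_perm {W : ι → Submodule k V} (hW : iSupIndep W) {A : Subgroup Y} (σ : A → ι → ι)
    (hinj : ∀ a, Function.Injective (σ a)) (hσ : ∀ (a : A) (i : ι), ∀ v ∈ W i, ρ a v ∈ W (σ a i))
    (X : Finset ι) (hX : ∀ i ∈ X, ∃ a, σ a i ∉ X) {U : Submodule k V} (hU : ∀ i ∈ X, W i ≤ U) :
    ∑ i ∈ X, finrank k (W i) ≤ codOn ρ U A := by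
  have := sum_le_codOn_of_perm hW σ hinj hσ X ∅ (Finset.disjoint_empty_right _) hX (fun _ => ⊥)
    (fun t ht => absurd ht (by simp)) (U := U) (fun i hi => hU i (by simpa using hi))
  simpa using this

theorem finrank_perm {W : ι → Submodule k V} {A : Subgroup Y} (σ : A →* Equiv.Perm ι)
    (hσ : ∀ (a : A) (i : ι), ∀ v ∈ W i, ρ a v ∈ W (σ a i)) (a : A) (i : ι) :
    finrank k (W (σ a i)) = finrank k (W i) := by
  have h : ∀ (a : A) (i : ι), finrank k (W i) ≤ finrank k (W (σ a i)) := fun a i => by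
    rw [← finrank_map_rho (ρ := ρ) a (W i)]
    exact Submodule.finrank_mono (by rintro _ ⟨v, hv, rfl⟩; exact hσ a i v hv)
  refine le_antisymm ?_ (h a i)
  have := h a⁻¹ (σ a i)
  rwa [← Equiv.Perm.mul_apply, ← map_mul, inv_mul_cancel, map_one, Equiv.Perm.one_apply] at this

/-- **G6, orbit form.** All orbits of `A` in the invariant set `M` have at least `m` points. -/
theorem orbit_bound {W : ι → Submodule k V} (hW : iSupIndep W) {A : Subgroup Y} (σ : A →* Equiv.Perm ι)
    (hσ : ∀ (a : A) (i : ι), ∀ v ∈ W i, ρ a v ∈ W (σ a i)) (M : Finset ι) (hM : ∀ a, ∀ i ∈ M, σ a i ∈ M)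
    (m : ℕ) (hm : ∀ i ∈ M, m ≤ Nat.card (Set.range fun a : A => σ a i)) {U : Submodule k V}
    (hU : ∀ i ∈ M, W i ≤ U) : (m - 1) * ∑ i ∈ M, finrank k (W i) ≤ m * codOn ρ U A := by
  classical
  let s : Setoid ι :=
    { r := fun i j => ∃ a, σ a i = j
      iseqv :=
        { refl := fun i => ⟨1, by rw [map_one]; rfl⟩
          symm := by
            rintro i _ ⟨a, rfl⟩
            exact ⟨a⁻¹, by rw [← Equiv.Perm.mul_apply, ← map_mul, inv_mul_cancel, map_one]; rfl⟩
          trans := by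
            rintro i _ _ ⟨a, rfl⟩ ⟨b, rfl⟩
            exact ⟨b * a, by rw [map_mul]; rfl⟩ } }
  let rep : ι → ι := fun i => (Quotient.mk s i).out
  have r1 : ∀ i, ∃ a, σ a i = rep i := fun i => s.symm (Quotient.mk_out (s := s) i)
  have r2 : ∀ a i, rep (σ a i) = rep i := fun a i =>
    congrArg Quotient.out (Quotient.sound (s.symm (⟨a, rfl⟩ : s.r i (σ a i))))
  have r3 : ∀ i, rep (rep i) = rep i := fun i => by
    obtain ⟨a, ha⟩ := r1 i
    rw [← ha, r2, ha]
  have h1 := sum_finrank_le_codOn_of_perm hW (fun a => σ a) (fun a => (σ a).injective) hσ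
    (M.filter fun i => ¬ rep i = i) (fun i _ => by
      obtain ⟨a, ha⟩ := r1 i
      exact ⟨a, fun h => (Finset.mem_filter.1 h).2 (by rw [ha, r3])⟩) (U := U)
    (fun i hi => hU i (Finset.mem_filter.1 hi).1)
  have h2 := Finset.sum_filter_add_sum_filter_not M (fun i => rep i = i) fun i => finrank k (W i)
  have h3 : m * ∑ i ∈ M with rep i = i, finrank k (W i) ≤ ∑ i ∈ M, finrank k (W i) := by
    rw [← Finset.sum_fiberwise_of_maps_to (s := M) (t := M.filter fun i => rep i = i) (g := rep) (fun i hi => by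
      obtain ⟨a, ha⟩ := r1 i
      exact Finset.mem_filter.2 ⟨ha ▸ hM a i hi, r3 i⟩), Finset.mul_sum]
    refine Finset.sum_le_sum fun r hr => ?_
    obtain ⟨hr1, hr2⟩ := Finset.mem_filter.1 hr
    have h4 : ∀ i ∈ M.filter fun i => rep i = r, finrank k (W i) = finrank k (W r) := fun i hi => by
      obtain ⟨a, ha⟩ := r1 i
      rw [← (Finset.mem_filter.1 hi).2, ← ha, finrank_perm σ hσ]
    rw [Finset.sum_congr rfl h4, Finset.sum_const, smul_eq_mul]
    refine Nat.mul_le_mul_right _ ((hm r hr1).trans ?_)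
    rw [← Nat.card_eq_finsetCard]
    refine Nat.card_mono (Finset.finite_toSet _) ?_
    rintro _ ⟨a, rfl⟩
    exact Finset.mem_coe.2 (Finset.mem_filter.2 ⟨hM a r hr1, by rw [r2, hr2]⟩)
  rcases m with _ | m
  · simp
  · rw [Nat.add_sub_cancel]
    nlinarith

/-- a point moved by a `p`-group has at least `p` images -/
theorem le_card_range_of_isPGroup {A : Type*} [Group A] [Finite A] {p : ℕ} [Fact p.Prime] (hA : IsPGroup p A)
    (σ : A →* Equiv.Perm ι) {i : ι} (h : ∃ a, σ a i ≠ i) : p ≤ Nat.card (Set.range fun a : A => σ a i) := by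
  let _ : MulAction A ι := MulAction.compHom ι σ
  have : Finite (MulAction.orbit A i) := Set.finite_range _
  obtain ⟨n, hn⟩ := hA.card_orbit i
  have h1 : Nat.card (Set.range fun a : A => σ a i) = p ^ n := hn
  rw [h1]
  rcases n with _ | n
  · exfalso
    obtain ⟨a, ha⟩ := h
    rw [pow_zero, Nat.card_eq_one_iff_unique] at h1
    have := h1.1.elim ⟨σ a i, a, rfl⟩ ⟨i, 1, by simp⟩
    exact ha (congrArg Subtype.val this)
  · exact Nat.le_self_pow (by omega) p

/-- a point with trivial stabiliser has `|A|` images -/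
theorem card_range_of_free {A : Type*} [Group A] (σ : A →* Equiv.Perm ι) {i : ι}
    (h : ∀ a, σ a i = i → a = 1) : Nat.card (Set.range fun a : A => σ a i) = Nat.card A := by
  refine Nat.card_range_of_injective fun a b hab => ?_
  have h1 : σ a i = σ b i := hab
  rw [← inv_mul_eq_one]
  apply h
  rw [map_mul, Equiv.Perm.mul_apply, ← h1, ← Equiv.Perm.mul_apply, ← map_mul, inv_mul_cancel, map_one]
  rfl

end Cfsg.Agent.TwoF.Gen
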