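import Mathlib
import Cfsg.Agent.TwoF.Gen.BPerm

/-!
# TwoF, G6 (part 2): weights of a subgroup (helper14)

`wt ρ R χ` is the weight space of `χ : R →* kˣ`, `mlt ρ R χ` its dimension, `tw x χ` the conjugate of `χ` by an element
`x` of the normaliser of `R`.
-/

set_option autoImplicit false
set_option linter.unusedSectionVars false

namespace Cfsg.Agent.TwoF.Gen

open Module
open scoped TensorProduct

variable {k : Type*} [Field k] {Y : Type*} [Group Y] {V : Type*} [AddCommGroup V] [Module k V]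
  {ρ : Representation k Y V} {R : Subgroup Y}

/-- the weight space -/
def wt (ρ : Representation k Y V) (R : Subgroup Y) (χ : R →* kˣ) : Submodule k V where
  carrier := {v | ∀ r : R, ρ r v = (χ r : k) • v}
  add_mem' := fun {a b} ha hb r => by rw [map_add, ha r, hb r, smul_add]
  zero_mem' := fun r => by rw [map_zero, smul_zero]
  smul_mem' := fun t v hv r => by rw [map_smul, hv r, smul_comm]

theorem mem_wt {χ : R →* kˣ} {v : V} : v ∈ wt ρ R χ ↔ ∀ r : R, ρ r v = (χ r : k) • v := Iff.rfl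

/-- the multiplicity of a weight -/
noncomputable def mlt (ρ : Representation k Y V) (R : Subgroup Y) (χ : R →* kˣ) : ℕ := finrank k (wt ρ R χ)

theorem wt_one : wt ρ R 1 = fx ρ R := by
  ext v
  rw [mem_wt, mem_fx]
  exact ⟨fun h b hb => by simpa using h ⟨b, hb⟩, fun h r => by simpa using h r r.2⟩

theorem wt_le_fx {χ : R →* kˣ} {B : Subgroup Y} (hB : B ≤ R) (h : ∀ r : R, (r : Y) ∈ B → χ r = 1) :
    wt ρ R χ ≤ fx ρ B := fun v hv b hb => by
  have := hv ⟨b, hB hb⟩
  rwa [h _ hb, Units.val_one, one_smul] at this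

theorem wt_inf_fx {χ : R →* kˣ} {B : Subgroup Y} (h : ¬ ∀ r : R, (r : Y) ∈ B → χ r = 1) :
    wt ρ R χ ⊓ fx ρ B = ⊥ := by
  push Not at h
  obtain ⟨r, hr, h1⟩ := h
  rw [eq_bot_iff]
  rintro v ⟨hv, hv'⟩
  have h2 : ((χ r : k) - 1) • v = 0 := by rw [sub_smul, one_smul, ← hv r, hv' r hr, sub_self]
  rcases smul_eq_zero.1 h2 with h3 | h3
  · exact absurd (Units.val_eq_one.1 (sub_eq_zero.1 h3)) h1
  · exact h3

theorem wt_sum_eq_zero (s : Finset (R →* kˣ)) (c : (R →* kˣ) → V) (hc : ∀ χ ∈ s, c χ ∈ wt ρ R χ)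
    (h : ∑ χ ∈ s, c χ = 0) : ∀ χ ∈ s, c χ = 0 := by
  classical
  induction s using Finset.induction_on generalizing c with
  | empty => intro χ hχ; exact absurd hχ (by simp)
  | insert ψ s hψ ih =>
    rw [Finset.sum_insert hψ] at h
    have h1 : ∀ χ ∈ s, c χ = 0 := by
      intro χ hχ
      obtain ⟨r, hr⟩ : ∃ r, χ r ≠ ψ r := by
        by_contra h2
        push Not at h2
        exact hψ (MonoidHom.ext h2 ▸ hχ)
      have h2 := ih (fun φ => ((φ r : k) - ψ r) • c φ)
        (fun φ hφ => Submodule.smul_mem _ _ (hc φ (Finset.mem_insert_of_mem hφ))) (by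
          have h3 := congrArg (ρ r) h
          rw [map_add, map_sum, map_zero, hc ψ (Finset.mem_insert_self _ _) r,
            Finset.sum_congr rfl fun φ hφ => hc φ (Finset.mem_insert_of_mem hφ) r] at h3
          have h4 := congrArg ((ψ r : k) • ·) h
          simp only [smul_add, smul_zero, Finset.smul_sum] at h4
          simp only [sub_smul, Finset.sum_sub_distrib]
          rw [sub_eq_zero]
          exact add_left_cancel (h3.trans h4.symm)) χ hχ
      rcases smul_eq_zero.1 h2 with h3 | h3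
      · exact absurd (Units.val_injective (sub_eq_zero.1 h3)) hr
      · exact h3
    intro χ hχ
    rcases Finset.mem_insert.1 hχ with rfl | hχ
    · rwa [Finset.sum_eq_zero h1, add_zero] at h
    · exact h1 χ hχ

theorem indep_wt (ρ : Representation k Y V) (R : Subgroup Y) : iSupIndep (wt ρ R) := by
  classical
  intro ψ
  rw [Submodule.disjoint_def]
  intro v hv hv'
  rw [iSup_subtype'] at hv'
  obtain ⟨s, hs⟩ := Submodule.mem_iSup_iff_exists_finset.1 hv'
  obtain ⟨c, hc, -, hsum⟩ := exists_comp s hs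
  let d : (R →* kˣ) → V := fun χ => if h : χ ≠ ψ then c ⟨χ, h⟩ else -v
  have h1 : ψ ∉ s.map (Function.Embedding.subtype _) := by
    intro h
    obtain ⟨χ, -, e⟩ := Finset.mem_map.1 h
    exact χ.2 e
  have hψ : d ψ = -v := dif_neg (by simp)
  have h2 := wt_sum_eq_zero (ρ := ρ) (insert ψ (s.map (Function.Embedding.subtype _))) d (fun χ _ => by
    by_cases h : χ ≠ ψ
    · rw [show d χ = c ⟨χ, h⟩ from dif_pos h]
      exact hc ⟨χ, h⟩
    · rw [show d χ = -v from dif_neg h, not_not.1 h]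
      exact neg_mem hv) (by
    rw [Finset.sum_insert h1, Finset.sum_map, hψ, ← hsum, neg_add_eq_zero]
    exact Finset.sum_congr rfl fun χ _ => (show d χ.1 = c χ from dif_pos χ.2).symm) ψ (Finset.mem_insert_self _ _)
  rwa [hψ, neg_eq_zero] at h2

/-! ### conjugation -/

theorem conj_mem_of_normalizer {x : Y} (hx : x ∈ Subgroup.normalizer (R : Set Y)) {r : Y} (hr : r ∈ R) :
    x⁻¹ * r * x ∈ R := by
  have := (Subgroup.mem_normalizer_iff.1 (inv_mem hx) r).1 hr
  rwa [inv_inv] at this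

/-- the conjugate of a character: `tw x χ r = χ (x⁻¹ r x)` -/
def tw (x : Y) (hx : x ∈ Subgroup.normalizer (R : Set Y)) (χ : R →* kˣ) : R →* kˣ where
  toFun r := χ ⟨x⁻¹ * r * x, conj_mem_of_normalizer hx r.2⟩
  map_one' := by rw [← map_one χ]; congr 1; exact Subtype.ext (by simp)
  map_mul' a b := by
    rw [← map_mul χ]
    congr 1
    exact Subtype.ext (by simp only [Subgroup.coe_mul]; group)

theorem tw_apply {x : Y} (hx : x ∈ Subgroup.normalizer (R : Set Y)) (χ : R →* kˣ) (r : R) :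
    tw x hx χ r = χ ⟨x⁻¹ * r * x, conj_mem_of_normalizer hx r.2⟩ := rfl

theorem tw_apply_of_eq {x : Y} (hx : x ∈ Subgroup.normalizer (R : Set Y)) (χ : R →* kˣ) {r s : R}
    (h : (s : Y) = x⁻¹ * r * x) : tw x hx χ r = χ s := by
  rw [tw_apply]; congr 1; exact Subtype.ext h.symm

theorem tw_congr {x y : Y} (hx : x ∈ Subgroup.normalizer (R : Set Y)) (hy : y ∈ Subgroup.normalizer (R : Set Y))
    (h : x = y) (χ : R →* kˣ) : tw x hx χ = tw y hy χ := by subst h; rfl

theorem tw_one (χ : R →* kˣ) : tw 1 (one_mem _) χ = χ := MonoidHom.ext fun _ => tw_apply_of_eq _ _ (by simp)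

theorem tw_tw {x y : Y} (hx : x ∈ Subgroup.normalizer (R : Set Y)) (hy : y ∈ Subgroup.normalizer (R : Set Y))
    (χ : R →* kˣ) : tw x hx (tw y hy χ) = tw (x * y) (mul_mem hx hy) χ :=
  MonoidHom.ext fun r => by
    rw [tw_apply hx, tw_apply hy]
    exact (tw_apply_of_eq _ _ (by simp only; group)).symm

/-- the action of the normaliser on the characters -/
def twP (k : Type*) [Field k] (R : Subgroup Y) : Subgroup.normalizer (R : Set Y) →* Equiv.Perm (R →* kˣ) where
  toFun x :=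
    { toFun := tw x x.2
      invFun := tw (x : Y)⁻¹ (inv_mem x.2)
      left_inv := fun χ => by rw [tw_tw, tw_congr _ (one_mem _) (inv_mul_cancel _), tw_one]
      right_inv := fun χ => by rw [tw_tw, tw_congr _ (one_mem _) (mul_inv_cancel _), tw_one] }
  map_one' := Equiv.ext tw_one
  map_mul' x y := Equiv.ext fun χ => (tw_tw x.2 y.2 χ).symm

theorem twP_apply (x : Subgroup.normalizer (R : Set Y)) (χ : R →* kˣ) : twP k R x χ = tw (x : Y) x.2 χ := rfl

theorem tw_injective {x : Y} (hx : x ∈ Subgroup.normalizer (R : Set Y)) : Function.Injective (tw (k := k) x hx) :=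
  (twP k R ⟨x, hx⟩).injective

theorem tw_pow {x : Y} (hx : x ∈ Subgroup.normalizer (R : Set Y)) (χ : R →* kˣ) (n : ℕ) :
    tw x hx (χ ^ n) = tw x hx χ ^ n := rfl

theorem tw_eq_self_of_comm {x : Y} (hx : x ∈ Subgroup.normalizer (R : Set Y)) (h : ∀ r ∈ R, x * r = r * x)
    (χ : R →* kˣ) : tw x hx χ = χ :=
  MonoidHom.ext fun r => tw_apply_of_eq _ _ (by rw [mul_assoc, ← h r r.2, inv_mul_cancel_left])

theorem rho_mem_wt {x : Y} (hx : x ∈ Subgroup.normalizer (R : Set Y)) {χ : R →* kˣ} {v : V} (hv : v ∈ wt ρ R χ) :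
    ρ x v ∈ wt ρ R (tw x hx χ) := fun r => by
  rw [tw_apply, ← map_smul, ← hv, ← rho_mul, ← rho_mul]
  congr 2
  simp only
  group

/-- an element that centralises `R` leaves the weight spaces invariant -/
theorem inv_wt {B : Subgroup Y} (h : ∀ b ∈ B, ∀ r ∈ R, b * r = r * b) (χ : R →* kˣ) : Inv ρ B (wt ρ R χ) :=
  fun b hb v hv r => by rw [← rho_mul, ← h b hb r r.2, rho_mul, hv r, map_smul]

/-- `χ` is fixed by `x` if and only if it is trivial on the commutators -/
theorem tw_eq_self_iff {x : Y} (hx : x ∈ Subgroup.normalizer (R : Set Y)) (χ : R →* kˣ) :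
    tw x hx χ = χ ↔ ∀ r s : R, (s : Y) = x⁻¹ * r * x * (r : Y)⁻¹ → χ s = 1 := by
  constructor
  · intro h r s hs
    have h1 : tw x hx χ r = χ (s * r) := tw_apply_of_eq _ _ (by rw [Subgroup.coe_mul, hs]; group)
    rw [h, map_mul] at h1
    exact mul_eq_right.1 h1.symm
  · intro h
    refine MonoidHom.ext fun r => ?_
    have h1 := h r (⟨_, conj_mem_of_normalizer hx r.2⟩ * r⁻¹) rfl
    rw [map_mul, map_inv, mul_inv_eq_one] at h1
    exact h1

theorem commutator_le_of_le_normalizer {A : Subgroup Y} (hA : A ≤ Subgroup.normalizer (R : Set Y)) :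
    ⁅R, A⁆ ≤ R := by
  rw [Subgroup.commutator_le]
  intro r hr a ha
  rw [commutatorElement_def, mul_assoc, mul_assoc]
  refine mul_mem hr ?_
  rw [← mul_assoc]
  exact (Subgroup.mem_normalizer_iff.1 (hA ha) _).1 (inv_mem hr)

/-- `χ` is trivial on `⁅R, A⁆` if and only if it is fixed by `A` -/
theorem triv_commutator_iff {A : Subgroup Y} (hA : A ≤ Subgroup.normalizer (R : Set Y)) (χ : R →* kˣ) :
    (∀ r : R, (r : Y) ∈ ⁅R, A⁆ → χ r = 1) ↔ ∀ a : A, tw (a : Y) (hA a.2) χ = χ := by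
  constructor
  · intro h a
    rw [tw_eq_self_iff]
    intro r s hs
    apply h
    rw [hs, Subgroup.commutator_comm]
    have := Subgroup.commutator_mem_commutator (inv_mem a.2) r.2
    rwa [commutatorElement_def, inv_inv] at this
  · intro h r hr
    have h1 : ⁅R, A⁆ ≤ χ.ker.map R.subtype := by
      rw [Subgroup.commutator_comm, Subgroup.commutator_le]
      intro a ha s hs
      have h2 := commutator_le_of_le_normalizer hA
      rw [Subgroup.commutator_comm] at h2
      refine ⟨⟨_, h2 (Subgroup.commutator_mem_commutator ha hs)⟩, ?_, rfl⟩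
      refine (tw_eq_self_iff _ χ).1 (h ⟨a⁻¹, inv_mem ha⟩) ⟨s, hs⟩ _ ?_
      simp only [commutatorElement_def, inv_inv]
    obtain ⟨s, hs, e⟩ := h1 hr
    rw [← Subtype.ext e]
    exact hs

variable [FiniteDimensional k V]

theorem mlt_tw {x : Y} (hx : x ∈ Subgroup.normalizer (R : Set Y)) (χ : R →* kˣ) :
    mlt ρ R (tw x hx χ) = mlt ρ R χ :=
  finrank_perm (ρ := ρ) (W := wt ρ R) (twP k R) (fun a _ _ hv => rho_mem_wt a.2 hv) ⟨x, hx⟩ χ

theorem mlt_pos_iff {χ : R →* kˣ} : 0 < mlt ρ R χ ↔ wt ρ R χ ≠ ⊥ := by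
  rw [mlt, Nat.pos_iff_ne_zero, Ne, Submodule.finrank_eq_zero]

theorem sum_mlt_le (X : Finset (R →* kˣ)) : ∑ χ ∈ X, mlt ρ R χ ≤ finrank k V := by
  rw [← finrank_top k V]
  exact sum_finrank_le_of_indep (indep_wt ρ R) X fun _ _ => le_top

/-- **G6.** `X` contains no `A`-orbit of weights; the subgroups `B t ≤ A` fix the weights `t ∈ T`. -/
theorem sum_mlt_add_le_codOn {A : Subgroup Y} (hA : A ≤ Subgroup.normalizer (R : Set Y)) (X T : Finset (R →* kˣ))
    (hXT : Disjoint X T) (hX : ∀ χ ∈ X, ∃ a, ∃ ha : a ∈ A, tw a (hA ha) χ ∉ X) (B : (R →* kˣ) → Subgroup Y)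
    (hB : ∀ t ∈ T, ∀ b ∈ B t, ∃ hb : b ∈ A, tw b (hA hb) t = t) {U : Submodule k V}
    (hU : ∀ χ, χ ∈ X ∨ χ ∈ T → wt ρ R χ ≤ U) :
    ∑ χ ∈ X, mlt ρ R χ + ∑ t ∈ T, codOn ρ (wt ρ R t) (B t) ≤ codOn ρ U A :=
  sum_le_codOn_of_perm (indep_wt ρ R) (fun a : A => tw (a : Y) (hA a.2)) (fun _ => tw_injective _)
    (fun a _ _ hv => rho_mem_wt (hA a.2) hv) X T hXT
    (fun χ hχ => by obtain ⟨a, ha, h⟩ := hX χ hχ; exact ⟨⟨a, ha⟩, h⟩) B hB hU

/-- **G6.** `X` contains no `A`-orbit of weights. -/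
theorem sum_mlt_le_cod {A : Subgroup Y} (hA : A ≤ Subgroup.normalizer (R : Set Y)) (X : Finset (R →* kˣ))
    (hX : ∀ χ ∈ X, ∃ a, ∃ ha : a ∈ A, tw a (hA ha) χ ∉ X) : ∑ χ ∈ X, mlt ρ R χ ≤ cod ρ A := by
  have := sum_mlt_add_le_codOn (ρ := ρ) hA X ∅ (Finset.disjoint_empty_right _) hX (fun _ => ⊥)
    (fun t ht => absurd ht (by simp)) (U := ⊤) (fun _ _ => le_top)
  simpa [codOn_top] using this

/-- **G6, orbit form.** -/
theorem orbit_mlt_le_cod {A : Subgroup Y} (hA : A ≤ Subgroup.normalizer (R : Set Y)) (M : Finset (R →* kˣ))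
    (hM : ∀ a : A, ∀ χ ∈ M, tw (a : Y) (hA a.2) χ ∈ M) (m : ℕ)
    (hm : ∀ χ ∈ M, m ≤ Nat.card (Set.range fun a : A => tw (a : Y) (hA a.2) χ)) :
    (m - 1) * ∑ χ ∈ M, mlt ρ R χ ≤ m * cod ρ A := by
  rw [← codOn_top]
  exact orbit_bound (indep_wt ρ R) ((twP k R).comp (Subgroup.inclusion hA))
    (fun a _ _ hv => rho_mem_wt (hA a.2) hv) M hM m hm fun _ _ => le_top

/-- weights that are non-trivial on a subgroup `B` of `R` -/
theorem sum_mlt_le_cod_of_le {B : Subgroup Y} (hB : B ≤ R) (X : Finset (R →* kˣ))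
    (hX : ∀ χ ∈ X, ¬ ∀ r : R, (r : Y) ∈ B → χ r = 1) : ∑ χ ∈ X, mlt ρ R χ ≤ cod ρ B := by
  rw [← codOn_top]
  refine (finrank_biSup_of_indep (indep_wt ρ R) X).symm.le.trans (finrank_le_codOn le_top ?_)
  rw [eq_bot_iff]
  rintro v ⟨hv, hfix⟩
  obtain ⟨c, hc, h0, rfl⟩ := exists_comp X hv
  rw [Submodule.mem_bot]
  refine Finset.sum_eq_zero fun χ hχ => (Submodule.mem_bot k).1 ?_
  rw [← wt_inf_fx (ρ := ρ) (hX χ hχ)]
  refine ⟨hc χ, fun b hb => ?_⟩
  exact comp_eq (indep_wt ρ R) (σ := id) Function.injective_id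
    (fun ψ w hw => by rw [show ρ b w = _ from hw ⟨b, hB hb⟩]; exact Submodule.smul_mem _ _ hw) X c hc h0
    (hfix b hb) χ

/-! ### algebraically closed fields -/

theorem iSup_wt [IsAlgClosed k] [Finite R] (hc : ∀ a ∈ R, ∀ b ∈ R, a * b = b * a) (hR : (Nat.card R : k) ≠ 0) :
    ⨆ χ, wt ρ R χ = ⊤ := by
  have h1 := Module.End.iSup_iInf_maxGenEigenspace_eq_top_of_iSup_maxGenEigenspace_eq_top_of_commute
    (fun a : R => (ρ a : Module.End k V)) (fun a b _ => by
      change ρ a * ρ b = ρ b * ρ a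
      rw [← map_mul, ← map_mul, hc a a.2 b b.2]) (fun a => Module.End.iSup_maxGenEigenspace_eq_top _)
  have h2 : ∀ (a : R) (c : k), Module.End.maxGenEigenspace (ρ a) c = Module.End.eigenspace (ρ a) c := by
    intro a c
    have hss : Module.End.IsSemisimple (ρ a) := by
      refine Module.End.isSemisimple_of_squarefree_aeval_eq_zero
        (p := Polynomial.X ^ Nat.card R - Polynomial.C 1) ?_ ?_
      · exact (Polynomial.separable_X_pow_sub_C (1 : k) hR one_ne_zero).squarefree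
      · have : (a : Y) ^ Nat.card R = 1 := by rw [← Subgroup.coe_pow, pow_card_eq_one', Subgroup.coe_one]
        rw [map_sub, map_pow, Polynomial.aeval_X, ← map_pow, this, map_one, map_one, map_one, sub_self]
    exact hss.isFinitelySemisimple.maxGenEigenspace_eq_eigenspace c
  rw [eq_top_iff, ← h1]
  refine iSup_le fun f => ?_
  by_cases h : (⨅ a : R, Module.End.maxGenEigenspace (ρ a) (f a)) = ⊥
  · rw [h]; exact bot_le
  · obtain ⟨w, hw, hw0⟩ := Submodule.exists_mem_ne_zero_of_ne_bot h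
    have h3 : ∀ v ∈ ⨅ a : R, Module.End.maxGenEigenspace (ρ a) (f a), ∀ a : R, ρ a v = f a • v :=
      fun v hv a => by
        have := (Submodule.mem_iInf _).1 hv a
        rwa [h2, Module.End.mem_eigenspace_iff] at this
    let g : R →* k :=
      { toFun := f
        map_one' := by
          have := h3 w hw 1
          rw [Subgroup.coe_one, rho_one] at this
          exact smul_left_injective k hw0 (by simpa using this.symm)
        map_mul' := fun a b => by
          have := h3 w hw (a * b)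
          rw [Subgroup.coe_mul, rho_mul, h3 w hw b, map_smul, h3 w hw a, smul_smul, mul_comm] at this
          exact smul_left_injective k hw0 this.symm }
    exact le_iSup_of_le g.toHomUnits fun v hv a => h3 v hv a

theorem sum_mlt [IsAlgClosed k] [Finite R] [Fintype (R →* kˣ)] (hc : ∀ a ∈ R, ∀ b ∈ R, a * b = b * a)
    (hR : (Nat.card R : k) ≠ 0) : ∑ χ, mlt ρ R χ = finrank k V := by
  have h1 := finrank_biSup_of_indep (indep_wt ρ R) Finset.univ
  have h2 : ⨆ χ ∈ (Finset.univ : Finset (R →* kˣ)), wt ρ R χ = ⊤ := by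
    rw [← iSup_wt (ρ := ρ) hc hR]
    exact iSup_congr fun χ => iSup_pos (Finset.mem_univ χ)
  rw [h2, finrank_top] at h1
  exact h1.symm

open Classical in
/-- `cod ρ B` is the sum of the multiplicities of the weights that are non-trivial on `B` -/
theorem cod_eq_sum_mlt [IsAlgClosed k] [Finite R] [Fintype (R →* kˣ)] (hc : ∀ a ∈ R, ∀ b ∈ R, a * b = b * a)
    (hR : (Nat.card R : k) ≠ 0) {B : Subgroup Y} (hB : B ≤ R) :
    cod ρ B = ∑ χ with ¬ ∀ r : R, (r : Y) ∈ B → χ r = 1, mlt ρ R χ := by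
  refine le_antisymm ?_ (sum_mlt_le_cod_of_le hB _ fun χ hχ => (Finset.mem_filter.1 hχ).2)
  have h1 := Finset.sum_filter_add_sum_filter_not Finset.univ
    (fun χ : R →* kˣ => ∀ r : R, (r : Y) ∈ B → χ r = 1) (mlt ρ R)
  have h2 := sum_finrank_le_of_indep (indep_wt ρ R)
    (Finset.univ.filter fun χ : R →* kˣ => ∀ r : R, (r : Y) ∈ B → χ r = 1) (U := fx ρ B)
    fun χ hχ => wt_le_fx hB (Finset.mem_filter.1 hχ).2
  have h3 := cod_add (ρ := ρ) B
  rw [sum_mlt hc hR] at h1
  unfold mlt at h1 ⊢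
  omega

/-- a subgroup of `R` that acts non-trivially has a non-trivial weight -/
theorem exists_wt [IsAlgClosed k] [Finite R] (hc : ∀ a ∈ R, ∀ b ∈ R, a * b = b * a)
    (hR : (Nat.card R : k) ≠ 0) {r : R} (hr : ρ r ≠ 1) : ∃ χ : R →* kˣ, χ r ≠ 1 ∧ 0 < mlt ρ R χ := by
  by_contra h
  push Not at h
  apply hr
  ext v
  have h1 : (⊤ : Submodule k V) ≤ fx ρ (Subgroup.zpowers (r : Y)) := by
    rw [← iSup_wt (ρ := ρ) hc hR]
    refine iSup_le fun χ => ?_
    by_cases h2 : χ r = 1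
    · intro w hw
      rw [mem_fx_zpowers, hw r, h2, Units.val_one, one_smul]
    · rw [Submodule.finrank_eq_zero.1 (Nat.le_zero.1 (h χ h2))]
      exact bot_le
  exact mem_fx_zpowers.1 (h1 trivial)

theorem finite_char (k : Type*) [Field k] (R : Subgroup Y) [Finite R] : Finite (R →* kˣ) := by
  have : Finite (R →* k) := (linearIndependent_monoidHom R k).finite
  exact Finite.of_injective (fun χ : R →* kˣ => (Units.coeHom k).comp χ) fun χ ψ h =>
    MonoidHom.ext fun r => Units.val_injective (DFunLike.congr_fun h r)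

theorem coprime_bound_closed [IsAlgClosed k] [Finite R] (hc : ∀ a ∈ R, ∀ b ∈ R, a * b = b * a)
    (hR : (Nat.card R : k) ≠ 0) {A : Subgroup Y} (hA : A ≤ Subgroup.normalizer (R : Set Y)) (m : ℕ)
    (hm : ∀ χ : R →* kˣ, (∃ a : A, tw (a : Y) (hA a.2) χ ≠ χ) → m ≤ Nat.card (Set.range fun a : A => tw (a : Y) (hA a.2) χ)) :
    (m - 1) * cod ρ ⁅R, A⁆ ≤ m * cod ρ A := by
  classical
  have := finite_char k R
  have := Fintype.ofFinite (R →* kˣ)
  rw [cod_eq_sum_mlt hc hR (commutator_le_of_le_normalizer hA)]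
  refine orbit_mlt_le_cod hA _ (fun a χ hχ => ?_) m fun χ hχ => hm χ ?_
  · rw [Finset.mem_filter, triv_commutator_iff hA] at hχ ⊢
    refine ⟨Finset.mem_univ _, fun h => hχ.2 fun b => tw_injective (hA a.2) ?_⟩
    have h1 := h (a * b * a⁻¹)
    rw [tw_tw] at h1 ⊢
    rw [← h1]
    exact tw_congr _ _ (by simp) _
  · rw [Finset.mem_filter, triv_commutator_iff hA] at hχ
    exact not_forall.1 hχ.2

/-! ### arbitrary fields -/

theorem card_ne_zero_closure {n : ℕ} (h : (n : k) ≠ 0) : (n : AlgebraicClosure k) ≠ 0 := by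
  rw [← map_natCast (algebraMap k (AlgebraicClosure k))]
  exact (_root_.map_ne_zero _).2 h

/-- **G6.** A `p`-group `A` normalises an abelian group `R` of order invertible in `k`. -/
theorem coprime_bound [Finite Y] (hc : ∀ a ∈ R, ∀ b ∈ R, a * b = b * a) (hR : (Nat.card R : k) ≠ 0)
    {A : Subgroup Y} (hA : A ≤ Subgroup.normalizer (R : Set Y)) {p : ℕ} [Fact p.Prime] (hp : IsPGroup p A) :
    (p - 1) * cod ρ ⁅R, A⁆ ≤ p * cod ρ A := by
  rw [← cod_bc (AlgebraicClosure k) ⁅R, A⁆, ← cod_bc (AlgebraicClosure k) A]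
  exact coprime_bound_closed (ρ := bc (AlgebraicClosure k) ρ) hc (card_ne_zero_closure hR) hA p fun χ h =>
    le_card_range_of_isPGroup hp ((twP _ R).comp (Subgroup.inclusion hA)) h

/-- **G6.** The Frobenius case: `[R, a] = R` for all `a ≠ 1` in `A`. -/
theorem frobenius_bound' [Finite Y] (hc : ∀ a ∈ R, ∀ b ∈ R, a * b = b * a) (hR : (Nat.card R : k) ≠ 0)
    {A : Subgroup Y} (hA : A ≤ Subgroup.normalizer (R : Set Y))
    (hf : ∀ a ∈ A, a ≠ 1 → ∀ r ∈ R, ∃ s ∈ R, r = a⁻¹ * s * a * s⁻¹) :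
    (Nat.card A - 1) * cod ρ R ≤ Nat.card A * cod ρ A := by
  by_cases h1 : A = ⊥
  · rw [h1]; simp
  obtain ⟨⟨a, ha⟩, ha1⟩ := Subgroup.ne_bot_iff_exists_ne_one.1 h1
  have h2 : ⁅R, A⁆ = R := by
    refine le_antisymm (commutator_le_of_le_normalizer hA) fun r hr => ?_
    obtain ⟨s, hs, rfl⟩ := hf a ha (fun e => ha1 (Subtype.ext e)) r hr
    rw [Subgroup.commutator_comm]
    have := Subgroup.commutator_mem_commutator (inv_mem ha) hs
    rwa [commutatorElement_def, inv_inv] at this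
  have h3 := coprime_bound_closed (ρ := bc (AlgebraicClosure k) ρ) hc (card_ne_zero_closure hR) hA (Nat.card A)
    fun χ h => by
      refine (card_range_of_free ((twP _ R).comp (Subgroup.inclusion hA)) fun b hb => ?_).ge
      by_contra hb1
      obtain ⟨c, hc'⟩ := h
      have h4 : χ = 1 := MonoidHom.ext fun r => by
        obtain ⟨s, hs, e⟩ := hf b b.2 (fun e => hb1 (Subtype.ext e)) r r.2
        exact (tw_eq_self_iff (hA b.2) χ).1 hb ⟨s, hs⟩ r e
      exact hc' (by rw [h4]; rfl)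
  rwa [h2, cod_bc, cod_bc] at h3

/-- **G6.** The Frobenius case: `A` acts semiregularly on `R`. -/
theorem frobenius_bound [Finite Y] (hc : ∀ a ∈ R, ∀ b ∈ R, a * b = b * a) (hR : (Nat.card R : k) ≠ 0)
    {A : Subgroup Y} (hA : A ≤ Subgroup.normalizer (R : Set Y))
    (hf : ∀ a ∈ A, a ≠ 1 → ∀ r ∈ R, a * r = r * a → r = 1) :
    (Nat.card A - 1) * cod ρ R ≤ Nat.card A * cod ρ A := by
  refine frobenius_bound' hc hR hA fun a ha ha1 r hr => ?_
  let f : R → R := fun s => ⟨a⁻¹ * s * a * (s : Y)⁻¹, mul_mem (conj_mem_of_normalizer (hA ha) s.2) (inv_mem s.2)⟩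
  have h1 : Function.Injective f := by
    intro s t hst
    have h2 : a⁻¹ * s * a * (s : Y)⁻¹ = a⁻¹ * t * a * (t : Y)⁻¹ := congrArg Subtype.val hst
    have h3 := hf a ha ha1 ((t : Y)⁻¹ * s) (mul_mem (inv_mem t.2) s.2) (by
      calc a * ((t : Y)⁻¹ * s) = (t : Y)⁻¹ * a * (a⁻¹ * t * a * (t : Y)⁻¹) * s := by group
        _ = (t : Y)⁻¹ * a * (a⁻¹ * s * a * (s : Y)⁻¹) * s := by rw [h2]
        _ = _ := by group)
    exact Subtype.ext (inv_mul_eq_one.1 h3).symm
  obtain ⟨s, hs⟩ := Finite.surjective_of_injective h1 ⟨r, hr⟩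
  exact ⟨s, s.2, (congrArg Subtype.val hs).symm⟩

/-- **G6.** `a` of prime order `p` normalises and does not centralise `⟨x⟩`, `x` of prime order `s`. -/
theorem frobenius_bound_elt [Finite Y] {x a : Y} {s p : ℕ} (hs : s.Prime) (hx : orderOf x = s) (hk : (s : k) ≠ 0)
    [Fact p.Prime] (ha : orderOf a = p) (hn : a ∈ Subgroup.normalizer (Subgroup.zpowers x : Set Y))
    (hax : a * x ≠ x * a) : (p - 1) * cod ρ (Subgroup.zpowers x) ≤ p * cod ρ (Subgroup.zpowers a) := by
  have h1 := coprime_bound (ρ := ρ) (R := Subgroup.zpowers x) (A := Subgroup.zpowers a) (p := p)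
    (by rintro _ ⟨i, rfl⟩ _ ⟨j, rfl⟩; exact (Commute.zpow_zpow_self x i j).eq)
    (by rwa [Nat.card_zpowers, hx]) ((Subgroup.zpowers_le).2 hn)
    (IsPGroup.of_card (n := 1) (by rw [Nat.card_zpowers, ha, pow_one]))
  have h2 : ⁅Subgroup.zpowers x, Subgroup.zpowers a⁆ = Subgroup.zpowers x := by
    have h3 := commutator_le_of_le_normalizer ((Subgroup.zpowers_le).2 hn)
    have h4 := Subgroup.card_dvd_of_le h3
    rw [Nat.card_zpowers, hx] at h4
    rcases (Nat.dvd_prime hs).1 h4 with h5 | h5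
    · exfalso
      have h6 := Subgroup.commutator_mem_commutator (Subgroup.mem_zpowers x) (Subgroup.mem_zpowers a)
      rw [Subgroup.card_eq_one.1 h5, Subgroup.mem_bot, commutatorElement_eq_one_iff_mul_comm] at h6
      exact hax h6.symm
    · exact Subgroup.eq_of_le_of_card_ge h3 (by rw [Nat.card_zpowers, hx, h5])
  rwa [h2] at h1

/-- **G6.** `a` inverts `x` of odd order. -/
theorem cod_le_of_inverts {x a : Y} (hx : Odd (orderOf x)) (h : a * x * a⁻¹ = x⁻¹) :
    cod ρ (Subgroup.zpowers x) ≤ 2 * cod ρ (Subgroup.zpowers a) := by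
  have h1 := cod_zpowers_commutator_le (ρ := ρ) a x
  refine le_trans (cod_mono ((Subgroup.zpowers_le).2 ?_)) h1
  obtain ⟨n, hn⟩ := hx
  have h2 : x = ((x⁻¹ * x⁻¹)⁻¹) ^ (n + 1) := by
    rw [mul_inv_rev, inv_inv, ← pow_two, ← pow_mul, show 2 * (n + 1) = 2 * n + 1 + 1 by ring, pow_succ, ← hn,
      pow_orderOf_eq_one, one_mul]
  rw [h]
  conv_lhs => skip
  exact h2 ▸ (by
    have := pow_mem (inv_mem (Subgroup.mem_zpowers (x⁻¹ * x⁻¹))) (n + 1)
    rwa [← h2] at this ⊢)

/-! ### Galois conjugation -/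

section Galois

variable (L : Type*) [Field L] [Algebra k L]

/-- a Galois conjugate of a character -/
def gal {L : Type*} [Field L] [Algebra k L] (τ : L ≃ₐ[k] L) (χ : R →* Lˣ) : R →* Lˣ :=
  (Units.map (τ : L →* L)).comp χ

omit [FiniteDimensional k V] in
theorem mlt_gal (τ : L ≃ₐ[k] L) (χ : R →* Lˣ) : mlt (bc L ρ) R (gal τ χ) = mlt (bc L ρ) R χ := by
  have key : ∀ (τ : L ≃ₐ[k] L) (c : L) (x : L ⊗[k] V),
      τ.toLinearMap.rTensor V (c • x) = τ c • τ.toLinearMap.rTensor V x := by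
    intro τ c x
    induction x with
    | zero => simp
    | tmul a v => simp [TensorProduct.smul_tmul']
    | add x y hx hy => rw [smul_add, map_add, map_add, hx, hy, smul_add]
  have comm : ∀ (τ : L ≃ₐ[k] L) (g : Y) (x : L ⊗[k] V),
      bc L ρ g (τ.toLinearMap.rTensor V x) = τ.toLinearMap.rTensor V (bc L ρ g x) := by
    intro τ g x
    induction x with
    | zero => simp
    | tmul a v => simp [bc_tmul]
    | add x y hx hy => rw [map_add, map_add, hx, hy, map_add, map_add]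
  have mem : ∀ (τ : L ≃ₐ[k] L) (χ ψ : R →* Lˣ), (∀ r, (ψ r : L) = τ (χ r)) → ∀ x ∈ wt (bc L ρ) R χ,
      τ.toLinearMap.rTensor V x ∈ wt (bc L ρ) R ψ := fun τ χ ψ h x hx r => by
    rw [comm, hx r, key, h]
  have inv : ∀ (τ : L ≃ₐ[k] L) (x : L ⊗[k] V),
      τ.symm.toLinearMap.rTensor V (τ.toLinearMap.rTensor V x) = x := by
    intro τ x
    induction x with
    | zero => simp
    | tmul a v => simp
    | add x y hx hy => rw [map_add, map_add, hx, hy]
  let j : wt (bc L ρ) R χ ≃+ wt (bc L ρ) R (gal τ χ) :=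
    { toFun := fun x => ⟨_, mem τ χ _ (fun _ => rfl) x x.2⟩
      invFun := fun x => ⟨_, mem τ.symm _ χ (fun r => (τ.symm_apply_apply _).symm) x x.2⟩
      left_inv := fun x => Subtype.ext (inv τ x)
      right_inv := fun x => Subtype.ext (inv τ.symm x)
      map_add' := fun x y => Subtype.ext (map_add _ _ _) }
  have h := rank_eq_of_equiv_equiv τ j τ.bijective fun c x => Subtype.ext (key τ c x)
  unfold mlt finrank
  rw [h]

end Galois

/-- over a finite field with `q` elements the weights `χ` and `χ ^ q` have the same multiplicity -/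
theorem mlt_pow_card [Fintype k] (L : Type*) [Field L] [Algebra k L] [Algebra.IsAlgebraic k L] (χ : R →* Lˣ) :
    mlt (bc L ρ) R (χ ^ Fintype.card k) = mlt (bc L ρ) R χ := by
  rw [← mlt_gal L (FiniteField.frobeniusAlgEquivOfAlgebraic k L) χ]
  rfl

theorem mlt_pow_card_pow [Fintype k] (L : Type*) [Field L] [Algebra k L] [Algebra.IsAlgebraic k L] (χ : R →* Lˣ)
    (n : ℕ) : mlt (bc L ρ) R (χ ^ Fintype.card k ^ n) = mlt (bc L ρ) R χ := by
  induction n with
  | zero => exact congrArg _ (MonoidHom.ext fun r => by simp)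
  | succ n ih =>
    rw [← ih, ← mlt_pow_card L (χ ^ Fintype.card k ^ n)]
    exact congrArg _ (MonoidHom.ext fun r => by simp [pow_succ, pow_mul])

end Cfsg.Agent.TwoF.Gen
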