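import Mathlib
import Cfsg.Agent.TwoF.Gen.BWt

/-!
# TwoF, G7: Heisenberg groups (helper14)
-/

set_option autoImplicit false
set_option linter.unusedSectionVars false

namespace Cfsg.Agent.TwoF.Gen

open Module
open scoped TensorProduct commutatorElement

variable {k : Type*} [Field k] {Y : Type*} [Group Y] {V : Type*} [AddCommGroup V] [Module k V]
  {ρ : Representation k Y V} {Z Q : Subgroup Y}

theorem comm_mul_left' {a b t : Y} (h : a * ⁅b, t⁆ = ⁅b, t⁆ * a) : ⁅a * b, t⁆ = ⁅b, t⁆ * ⁅a, t⁆ := by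
  have h1 : ⁅a * b, t⁆ = a * ⁅b, t⁆ * a⁻¹ * ⁅a, t⁆ := by simp only [commutatorElement_def]; group
  rw [h1, h, mul_inv_cancel_right]

theorem comm_mul_right' {a b t : Y} (h : a * ⁅t, b⁆ = ⁅t, b⁆ * a) : ⁅t, a * b⁆ = ⁅t, a⁆ * ⁅t, b⁆ := by
  have h1 : ⁅t, a * b⁆ = ⁅t, a⁆ * (a * ⁅t, b⁆ * a⁻¹) := by simp only [commutatorElement_def]; group
  rw [h1, h, mul_inv_cancel_right]

/-- the commutator form `q ↦ χ ⁅q, t⁆` -/
def hform (hc : ∀ q ∈ Q, ∀ z ∈ Z, q * z = z * q) (hQ : ∀ a ∈ Q, ∀ b ∈ Q, ⁅a, b⁆ ∈ Z) (χ : Z →* kˣ) :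
    Q →* ((⊤ : Subgroup Q) →* kˣ) where
  toFun t :=
    { toFun := fun q => χ ⟨⁅(q.1 : Y), (t : Y)⁆, hQ _ q.1.2 _ t.2⟩
      map_one' := by rw [← map_one χ]; congr 1; exact Subtype.ext (by simp)
      map_mul' := fun a b => by
        rw [mul_comm, ← map_mul χ]
        congr 1
        exact Subtype.ext (comm_mul_left' (hc _ a.1.2 _ (hQ _ b.1.2 _ t.2))) }
  map_one' := MonoidHom.ext fun q => by
    show χ _ = 1
    rw [← map_one χ]; congr 1; exact Subtype.ext (by simp)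
  map_mul' a b := MonoidHom.ext fun q => by
    show χ _ = χ _ * χ _
    rw [← map_mul χ]
    congr 1
    exact Subtype.ext (comm_mul_right' (hc _ a.2 _ (hQ _ q.1.2 _ b.2)))

theorem hform_eq_one_iff (hc : ∀ q ∈ Q, ∀ z ∈ Z, q * z = z * q) (hQ : ∀ a ∈ Q, ∀ b ∈ Q, ⁅a, b⁆ ∈ Z) (χ : Z →* kˣ)
    (t : Q) : hform hc hQ χ t = 1 ↔ ∀ q ∈ Q, ∀ z : Z, (z : Y) = ⁅(t : Y), q⁆ → χ z = 1 := by
  constructor
  · intro h q hq z hz
    have h1 : χ ⟨⁅q, (t : Y)⁆, hQ _ hq _ t.2⟩ = 1 := DFunLike.congr_fun h ⟨⟨q, hq⟩, trivial⟩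
    rw [← inv_eq_one, ← map_inv, ← h1]
    congr 1
    exact Subtype.ext (by rw [Subgroup.coe_inv, hz, commutatorElement_inv])
  · intro h
    refine MonoidHom.ext fun q => ?_
    show χ _ = 1
    rw [← inv_eq_one, ← map_inv]
    exact h q.1 q.1.2 _ (by rw [Subgroup.coe_inv, commutatorElement_inv])

variable [FiniteDimensional k V]

/-- **G7.** The index of the radical of the commutator form is at most the square of the multiplicity. -/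
theorem card_range_hform_le (hc : ∀ q ∈ Q, ∀ z ∈ Z, q * z = z * q) (hQ : ∀ a ∈ Q, ∀ b ∈ Q, ⁅a, b⁆ ∈ Z)
    {χ : Z →* kˣ} (hχ : 0 < mlt ρ Z χ) (X : Finset ((⊤ : Subgroup Q) →* kˣ))
    (hX : ∀ ψ ∈ X, ∃ t, hform hc hQ χ t = ψ) : X.card ≤ mlt ρ Z χ ^ 2 := by
  have hI : Inv ρ Q (wt ρ Z χ) := inv_wt hc χ
  let σ := resOn ρ hI
  have h1 := sum_mlt_le (ρ := Representation.linHom σ σ) (R := ⊤) X
  rw [Module.finrank_linearMap, ← pow_two] at h1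
  refine le_trans ?_ h1
  rw [Finset.card_eq_sum_ones]
  refine Finset.sum_le_sum fun ψ hψ => mlt_pos_iff.2 ?_
  obtain ⟨t, rfl⟩ := hX ψ hψ
  obtain ⟨w, hw, hw0⟩ := Submodule.exists_mem_ne_zero_of_ne_bot (mlt_pos_iff.1 hχ)
  refine (Submodule.ne_bot_iff _).2 ⟨σ t, fun q => ?_, fun h => hw0 ?_⟩
  · ext v
    have h2 := (σ t v).2 ⟨⁅(q.1 : Y), (t : Y)⁆, hQ _ q.1.2 _ t.2⟩
    refine Eq.trans ?_ h2
    show ρ q.1 (ρ t (ρ (q.1⁻¹ : Q) v)) = ρ _ (ρ t v)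
    rw [← rho_mul, ← rho_mul, ← rho_mul]
    congr 2
    simp only [commutatorElement_def, Subgroup.coe_inv]
    group
  · have h2 : ρ t w = 0 := congrArg Subtype.val (LinearMap.congr_fun h (⟨w, hw⟩ : wt ρ Z χ))
    exact rho_injective ρ t (h2.trans (map_zero _).symm)

/-- **G7.** `D` contains the radical of the form `χ ⁅·,·⁆` on `Q`. -/
theorem relIndex_le_mlt_sq [Finite Q] (hc : ∀ q ∈ Q, ∀ z ∈ Z, q * z = z * q) (hQ : ∀ a ∈ Q, ∀ b ∈ Q, ⁅a, b⁆ ∈ Z)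
    {χ : Z →* kˣ} (hχ : 0 < mlt ρ Z χ) (D : Subgroup Y)
    (hD : ∀ t ∈ Q, t ∉ D → ∃ q ∈ Q, ∃ z : Z, (z : Y) = ⁅t, q⁆ ∧ χ z ≠ 1) : D.relIndex Q ≤ mlt ρ Z χ ^ 2 := by
  classical
  have := Fintype.ofFinite Q
  have h1 := card_range_hform_le hc hQ hχ (Finset.univ.image (hform hc hQ χ)) fun ψ hψ => by
    obtain ⟨t, -, h⟩ := Finset.mem_image.1 hψ
    exact ⟨t, h⟩
  have h2 : (hform hc hQ χ).ker ≤ D.subgroupOf Q := fun t ht => by
    by_contra h3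
    obtain ⟨q, hq, z, hz, h4⟩ := hD t t.2 h3
    exact h4 ((hform_eq_one_iff hc hQ χ t).1 ht q hq z hz)
  have h3 : D.relIndex Q ≤ (hform hc hQ χ).ker.index :=
    Nat.le_of_dvd (Nat.pos_of_ne_zero Subgroup.index_ne_zero_of_finite) (Subgroup.index_dvd_of_le h2)
  refine h3.trans (le_trans (le_of_eq ?_) h1)
  rw [Subgroup.index_ker, ← Nat.card_eq_finsetCard]
  exact Nat.card_congr (Equiv.subtypeEquivRight fun ψ => by simp)

/-- **G7, irreducible form.** `L` fixes `χ` and acts irreducibly on `Q / D`, `D` central in `Q`. -/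
theorem relIndex_le_mlt_sq_of_irr [Finite Q] (hc : ∀ q ∈ Q, ∀ z ∈ Z, q * z = z * q)
    (hQ : ∀ a ∈ Q, ∀ b ∈ Q, ⁅a, b⁆ ∈ Z) {χ : Z →* kˣ} (hχ : 0 < mlt ρ Z χ) {D L : Subgroup Y}
    (hD : ∀ d ∈ D, ∀ q ∈ Q, d * q = q * d) (hDQ : D ≤ Q) (hL : L ≤ Subgroup.normalizer (Q : Set Y))
    (hfix : ∀ l ∈ L, ∀ z z' : Z, (z' : Y) = l * z * l⁻¹ → χ z' = χ z)
    (hirr : ∀ E : Subgroup Y, D ≤ E → E ≤ Q → (∀ l ∈ L, ∀ e ∈ E, l * e * l⁻¹ ∈ E) → E = D ∨ E = Q)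
    (hne : ∃ a ∈ Q, ∃ b ∈ Q, ∃ z : Z, (z : Y) = ⁅a, b⁆ ∧ χ z ≠ 1) : D.relIndex Q ≤ mlt ρ Z χ ^ 2 := by
  have hm : ∀ t, t ∈ (hform hc hQ χ).ker.map Q.subtype ↔
      t ∈ Q ∧ ∀ q ∈ Q, ∀ z : Z, (z : Y) = ⁅t, q⁆ → χ z = 1 := fun t =>
    ⟨by rintro ⟨s, hs, rfl⟩; exact ⟨s.2, (hform_eq_one_iff hc hQ χ s).1 hs⟩,
      fun h => ⟨⟨t, h.1⟩, (hform_eq_one_iff hc hQ χ _).2 h.2, rfl⟩⟩
  rcases hirr ((hform hc hQ χ).ker.map Q.subtype)
    (fun d hd => (hm d).2 ⟨hDQ hd, fun q hq z hz => by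
      rw [commutatorElement_eq_one_iff_mul_comm.2 (hD d hd q hq)] at hz
      rw [show z = 1 from Subtype.ext hz, map_one]⟩)
    (fun t ht => ((hm t).1 ht).1)
    (fun l hl e he => by
      obtain ⟨h1, h2⟩ := (hm e).1 he
      refine (hm _).2 ⟨(Subgroup.mem_normalizer_iff.1 (hL hl) e).1 h1, fun q hq z hz => ?_⟩
      have h3 := conj_mem_of_normalizer (hL hl) hq
      rw [hfix l hl ⟨_, hQ _ h1 _ h3⟩ z (by rw [hz]; simp only [commutatorElement_def]; group)]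
      exact h2 _ h3 _ rfl) with h | h
  · refine relIndex_le_mlt_sq hc hQ hχ D fun t ht htD => ?_
    by_contra h1
    push Not at h1
    exact htD (h ▸ (hm t).2 ⟨ht, h1⟩)
  · obtain ⟨a, ha, b, hb, z, hz, h1⟩ := hne
    exact absurd (((hm a).1 (h.symm ▸ ha)).2 b hb z hz) h1

theorem le_of_sq_le {m n c : ℕ} (h1 : m ^ 2 ≤ n) (h2 : n ≤ c ^ 2) : m ≤ c :=
  (Nat.pow_le_pow_iff_left two_ne_zero).1 (h1.trans h2)

/-! ### counting conjugate weights -/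

theorem card_mul_le_cod {R B : Subgroup Y} (hB : B ≤ R) (X : Finset (R →* kˣ))
    (hX : ∀ χ ∈ X, ¬ ∀ r : R, (r : Y) ∈ B → χ r = 1) {m : ℕ} (hm : ∀ χ ∈ X, m ≤ mlt ρ R χ) :
    X.card * m ≤ cod ρ B :=
  (Finset.card_nsmul_le_sum X _ m hm).trans (sum_mlt_le_cod_of_le hB X hX)

/-- the orbit of a non-trivial weight -/
theorem card_orbit_mul_le_cod {R H : Subgroup Y} [Finite R] (hH : H ≤ Subgroup.normalizer (R : Set Y))
    {χ : R →* kˣ} (hχ : χ ≠ 1) :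
    Nat.card (Set.range fun h : H => tw (h : Y) (hH h.2) χ) * mlt ρ R χ ≤ cod ρ R := by
  classical
  have := finite_char k R
  have h1 := card_mul_le_cod (ρ := ρ) le_rfl (Set.toFinite (Set.range fun h : H => tw (h : Y) (hH h.2) χ)).toFinset
    (fun ψ hψ h => by
      obtain ⟨a, rfl⟩ := (Set.Finite.mem_toFinset _).1 hψ
      exact hχ (tw_injective (hH a.2) (MonoidHom.ext fun r => h r r.2))) (m := mlt ρ R χ) fun ψ hψ => by
      obtain ⟨a, rfl⟩ := (Set.Finite.mem_toFinset _).1 hψ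
      exact (mlt_tw _ χ).ge
  rwa [← Set.ncard_eq_toFinset_card, ← Nat.card_coe_set_eq] at h1

omit [FiniteDimensional k V] in
/-- `H / C_H(R)` acts semiregularly on the group `R` -/
theorem card_orbit_of_semiregular {R H : Subgroup Y} [Finite R] (hH : H ≤ Subgroup.normalizer (R : Set Y))
    (hf : ∀ h ∈ H, ∀ r ∈ R, r ≠ 1 → h * r = r * h → ∀ s ∈ R, h * s = s * h) {χ : R →* kˣ} (hχ : χ ≠ 1) :
    Nat.card (Set.range fun h : H => tw (h : Y) (hH h.2) χ) = (Subgroup.centralizer (R : Set Y)).relIndex H := by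
  let _ : MulAction H (R →* kˣ) := MulAction.compHom _ ((twP k R).comp (Subgroup.inclusion hH))
  have h1 : MulAction.stabilizer H χ = (Subgroup.centralizer (R : Set Y)).subgroupOf H := by
    ext a
    constructor
    · intro ha
      have ha' : tw (a : Y) (hH a.2) χ = χ := ha
      by_contra h2
      apply hχ
      let f : R → R := fun s =>
        ⟨(a : Y)⁻¹ * s * a * (s : Y)⁻¹, mul_mem (conj_mem_of_normalizer (hH a.2) s.2) (inv_mem s.2)⟩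
      have h3 : Function.Injective f := by
        intro s t hst
        have h4 : (a : Y)⁻¹ * s * a * (s : Y)⁻¹ = (a : Y)⁻¹ * t * a * (t : Y)⁻¹ := congrArg Subtype.val hst
        by_contra h5
        refine h2 fun r hr => (hf a a.2 ((t : Y)⁻¹ * s) (mul_mem (inv_mem t.2) s.2)
          (fun e => h5 (Subtype.ext (inv_mul_eq_one.1 e).symm)) ?_ r hr).symm
        calc (a : Y) * ((t : Y)⁻¹ * s) = (t : Y)⁻¹ * a * ((a : Y)⁻¹ * t * a * (t : Y)⁻¹) * s := by group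
          _ = (t : Y)⁻¹ * a * ((a : Y)⁻¹ * s * a * (s : Y)⁻¹) * s := by rw [h4]
          _ = _ := by group
      refine MonoidHom.ext fun r => ?_
      obtain ⟨s, hs⟩ := Finite.surjective_of_injective h3 r
      exact (tw_eq_self_iff (hH a.2) χ).1 ha' s r (congrArg Subtype.val hs).symm
    · intro ha
      exact tw_eq_self_of_comm (hH a.2) (fun r hr => (ha r hr).symm) χ
  have h2 := MulAction.index_stabilizer H χ
  rw [h1] at h2
  exact (Nat.card_coe_set_eq _).trans h2.symm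

omit [FiniteDimensional k V] in
theorem orderOf_char_eq {r : ℕ} (hr : r.Prime) {R : Subgroup Y} {z : R} (hz : (z : Y) ^ r = 1) {χ : R →* kˣ}
    (h : χ z ≠ 1) : orderOf (χ z) = r := by
  have := Fact.mk hr
  exact orderOf_eq_prime (by rw [← map_pow, show z ^ r = 1 from Subtype.ext hz, map_one]) h

omit [FiniteDimensional k V] in
theorem char_zpowers_ext {z : Y} {χ ψ : Subgroup.zpowers z →* kˣ}
    (h : χ ⟨z, Subgroup.mem_zpowers z⟩ = ψ ⟨z, Subgroup.mem_zpowers z⟩) : χ = ψ :=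
  MonoidHom.ext fun r => by
    obtain ⟨_, n, rfl⟩ := r
    rw [show (⟨z ^ n, n, rfl⟩ : Subgroup.zpowers z) = ⟨z, Subgroup.mem_zpowers z⟩ ^ n from rfl, map_zpow, map_zpow, h]

/-- the eigenvalues of an element `z` of prime order `r`: Galois conjugates and conjugates under the normaliser -/
theorem card_mul_le_cod_zpowers [Fintype k] [Finite Y] {z : Y} {r : ℕ} (hr : r.Prime) (hz : z ^ r = 1)
    (hk : (r : k) ≠ 0) (hρ : ρ z ≠ 1) (J : Finset (ZMod r))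
    (hJ : ∀ j ∈ J, ∃ (g : Y) (i n : ℕ), g⁻¹ * z * g = z ^ i ∧ j = ((i * Fintype.card k ^ n : ℕ) : ZMod r)) {m : ℕ}
    (hm : ∀ χ : Subgroup.zpowers z →* (AlgebraicClosure k)ˣ, χ ≠ 1 →
      0 < mlt (bc (AlgebraicClosure k) ρ) _ χ → m ≤ mlt (bc (AlgebraicClosure k) ρ) _ χ) :
    J.card * m ≤ cod ρ (Subgroup.zpowers z) := by
  classical
  have := Fact.mk hr
  have hz1 : z ≠ 1 := fun e => hρ (by rw [e, map_one])
  have ho : orderOf z = r := orderOf_eq_prime hz hz1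
  obtain ⟨χ, h1, h2⟩ := exists_wt (ρ := bc (AlgebraicClosure k) ρ) (R := Subgroup.zpowers z)
    (by rintro _ ⟨i, rfl⟩ _ ⟨j, rfl⟩; exact (Commute.zpow_zpow_self z i j).eq)
    (card_ne_zero_closure (by rwa [Nat.card_zpowers, ho])) (r := ⟨z, Subgroup.mem_zpowers z⟩)
    (fun e => hρ (baseChange_injective (AlgebraicClosure k) (e.trans (LinearMap.baseChange_one _ _).symm)))
  have h3 := orderOf_char_eq hr (z := ⟨z, Subgroup.mem_zpowers z⟩) hz h1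
  have h4 := hm χ (fun e => h1 (by rw [e]; rfl)) h2
  have hinj : Set.InjOn (fun j : ZMod r => χ ^ j.val) J := fun i _ j _ hij => by
    have h5 : χ ⟨z, Subgroup.mem_zpowers z⟩ ^ i.val = χ ⟨z, Subgroup.mem_zpowers z⟩ ^ j.val :=
      DFunLike.congr_fun hij _
    rw [pow_inj_mod, h3, Nat.mod_eq_of_lt (ZMod.val_lt i), Nat.mod_eq_of_lt (ZMod.val_lt j)] at h5
    exact ZMod.val_injective r h5
  have key : ∀ j ∈ J, (χ ^ j.val) ⟨z, Subgroup.mem_zpowers z⟩ ≠ 1 ∧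
      mlt (bc (AlgebraicClosure k) ρ) _ (χ ^ j.val) = mlt (bc (AlgebraicClosure k) ρ) _ χ := by
    intro j hj
    obtain ⟨g, i, n, hg, rfl⟩ := hJ j hj
    have hg' : g ∈ Subgroup.normalizer (Subgroup.zpowers z : Set Y) := by
      rw [← inv_mem_iff]
      refine Subgroup.mem_normalizer_fintype ?_
      rintro _ ⟨t, rfl⟩
      show g⁻¹ * z ^ t * g⁻¹⁻¹ ∈ Subgroup.zpowers z
      rw [← conj_zpow, inv_inv, hg]
      exact zpow_mem (pow_mem (Subgroup.mem_zpowers z) i) t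
    have h5 : χ ^ ((i * Fintype.card k ^ n : ℕ) : ZMod r).val = tw g hg' χ ^ Fintype.card k ^ n := by
      apply char_zpowers_ext
      show χ _ ^ _ = tw g hg' χ _ ^ _
      rw [tw_apply_of_eq hg' χ (s := ⟨z, Subgroup.mem_zpowers z⟩ ^ i) hg.symm, map_pow, ← pow_mul, ZMod.val_natCast,
        ← h3, pow_mod_orderOf]
    have h6 := (mlt_pow_card_pow (ρ := ρ) (AlgebraicClosure k) (tw g hg' χ) n).trans (mlt_tw hg' χ)
    refine ⟨fun e => ?_, h5 ▸ h6⟩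
    have h7 : tw g hg' χ ^ Fintype.card k ^ n = 1 := h5 ▸ char_zpowers_ext e
    have h8 : tw g hg' χ ⟨z, Subgroup.mem_zpowers z⟩ ≠ 1 := fun e' =>
      h1 (by rw [tw_injective hg' (char_zpowers_ext e' : tw g hg' χ = tw g hg' 1)]; rfl)
    have h9 := orderOf_dvd_of_pow_eq_one (DFunLike.congr_fun h7 ⟨z, Subgroup.mem_zpowers z⟩ :
      tw g hg' χ ⟨z, Subgroup.mem_zpowers z⟩ ^ Fintype.card k ^ n = 1)
    rw [orderOf_char_eq hr (z := ⟨z, Subgroup.mem_zpowers z⟩) hz h8] at h9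
    have h11 := hr.dvd_of_dvd_pow h9
    obtain ⟨p, hp, s, hps, hs⟩ := FiniteField.card' k
    rw [hs] at h11
    have h10 : r = p := (Nat.prime_dvd_prime_iff_eq hr hps).1 (hr.dvd_of_dvd_pow h11)
    exact hk (by rw [h10]; exact CharP.cast_eq_zero k p)
  rw [← cod_bc (AlgebraicClosure k), ← Finset.card_image_of_injOn hinj]
  refine card_mul_le_cod le_rfl _ (fun ψ hψ h => ?_) fun ψ hψ => ?_
  · obtain ⟨j, hj, rfl⟩ := Finset.mem_image.1 hψ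
    exact (key j hj).1 (h _ (Subgroup.mem_zpowers z))
  · obtain ⟨j, hj, rfl⟩ := Finset.mem_image.1 hψ
    rw [(key j hj).2]
    exact h4

/-- the Galois conjugates only -/
theorem ord_mul_le_cod_zpowers [Fintype k] [Finite Y] {z : Y} {r : ℕ} (hr : r.Prime) (hz : z ^ r = 1)
    (hk : (r : k) ≠ 0) (hρ : ρ z ≠ 1) {m : ℕ}
    (hm : ∀ χ : Subgroup.zpowers z →* (AlgebraicClosure k)ˣ, χ ≠ 1 →
      0 < mlt (bc (AlgebraicClosure k) ρ) _ χ → m ≤ mlt (bc (AlgebraicClosure k) ρ) _ χ) :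
    orderOf ((Fintype.card k : ℕ) : ZMod r) * m ≤ cod ρ (Subgroup.zpowers z) := by
  classical
  have h1 := card_mul_le_cod_zpowers hr hz hk hρ
    ((Finset.range (orderOf ((Fintype.card k : ℕ) : ZMod r))).image fun n => ((Fintype.card k : ℕ) : ZMod r) ^ n)
    (fun j hj => by
      obtain ⟨n, -, rfl⟩ := Finset.mem_image.1 hj
      exact ⟨1, 1, n, by simp, by simp⟩) hm
  rwa [Finset.card_image_of_injOn (fun a ha b hb h => pow_injOn_Iio_orderOf (by simpa using ha) (by simpa using hb) h),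
    Finset.card_range] at h1

/-- `dim [V, z] ≥ ord_r(q)` -/
theorem ord_le_cod_zpowers [Fintype k] [Finite Y] {z : Y} {r : ℕ} (hr : r.Prime) (hz : z ^ r = 1)
    (hk : (r : k) ≠ 0) (hρ : ρ z ≠ 1) : orderOf ((Fintype.card k : ℕ) : ZMod r) ≤ cod ρ (Subgroup.zpowers z) := by
  simpa using ord_mul_le_cod_zpowers hr hz hk hρ (m := 1) fun _ _ h => h

theorem heis_mlt [Finite Y] {z : Y} {r : ℕ} (hr : r.Prime) (hz : z ^ r = 1) (hc : ∀ q ∈ Q, q * z = z * q)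
    (hQ : ∀ a ∈ Q, ∀ b ∈ Q, ⁅a, b⁆ ∈ Subgroup.zpowers z) (D : Subgroup Y)
    (hD : ∀ t ∈ Q, t ∉ D → ∃ q ∈ Q, t * q ≠ q * t) {m : ℕ} (hm : m ^ 2 ≤ D.relIndex Q)
    (χ : Subgroup.zpowers z →* kˣ) (hχ : χ ≠ 1) (h : 0 < mlt ρ _ χ) : m ≤ mlt ρ _ χ := by
  refine le_of_sq_le hm (relIndex_le_mlt_sq (fun q hq => ?_) hQ h D fun t ht htD => ?_)
  · rintro _ ⟨n, rfl⟩
    exact (Commute.zpow_right (hc q hq) n).eq
  · obtain ⟨q, hq, h1⟩ := hD t ht htD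
    refine ⟨q, hq, ⟨_, hQ t ht q hq⟩, rfl, fun e => h1 (commutatorElement_eq_one_iff_mul_comm.1 ?_)⟩
    obtain ⟨n, hn⟩ := hQ t ht q hq
    have h2 : χ ⟨z, Subgroup.mem_zpowers z⟩ ≠ 1 := fun e' => hχ (char_zpowers_ext e')
    have h3 : χ ⟨z, Subgroup.mem_zpowers z⟩ ^ n = 1 := by
      rw [← map_zpow, ← e]; congr 1; exact Subtype.ext hn
    obtain ⟨c, rfl⟩ := orderOf_dvd_iff_zpow_eq_one.2 h3
    rw [orderOf_char_eq hr (z := ⟨z, Subgroup.mem_zpowers z⟩) hz h2] at hn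
    rw [← hn]
    show z ^ ((r : ℤ) * c) = 1
    rw [zpow_mul, zpow_natCast, hz, one_zpow]

/-- **G7.** `⁅Q, Q⁆ ≤ ⟨z⟩`, `z` of prime order `r` centralised by `Q`, `D ≥ Z(Q)`, `m ^ 2 ≤ |Q : D|`; `J` a set of
exponents `i q ^ n` with `z ^ i` conjugate to `z`. -/
theorem heis_J [Fintype k] [Finite Y] {z : Y} {r : ℕ} (hr : r.Prime) (hz : z ^ r = 1) (hk : (r : k) ≠ 0)
    (hρ : ρ z ≠ 1) (hc : ∀ q ∈ Q, q * z = z * q) (hQ : ∀ a ∈ Q, ∀ b ∈ Q, ⁅a, b⁆ ∈ Subgroup.zpowers z)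
    (D : Subgroup Y) (hD : ∀ t ∈ Q, t ∉ D → ∃ q ∈ Q, t * q ≠ q * t) {m : ℕ} (hm : m ^ 2 ≤ D.relIndex Q)
    (J : Finset (ZMod r))
    (hJ : ∀ j ∈ J, ∃ (g : Y) (i n : ℕ), g⁻¹ * z * g = z ^ i ∧ j = ((i * Fintype.card k ^ n : ℕ) : ZMod r)) :
    J.card * m ≤ cod ρ (Subgroup.zpowers z) :=
  card_mul_le_cod_zpowers hr hz hk hρ J hJ (heis_mlt hr hz hc hQ D hD hm)

/-- **G7.** `dim [V, z] ≥ ord_r(q) m` -/
theorem heis [Fintype k] [Finite Y] {z : Y} {r : ℕ} (hr : r.Prime) (hz : z ^ r = 1) (hk : (r : k) ≠ 0)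
    (hρ : ρ z ≠ 1) (hc : ∀ q ∈ Q, q * z = z * q) (hQ : ∀ a ∈ Q, ∀ b ∈ Q, ⁅a, b⁆ ∈ Subgroup.zpowers z)
    (D : Subgroup Y) (hD : ∀ t ∈ Q, t ∉ D → ∃ q ∈ Q, t * q ≠ q * t) {m : ℕ} (hm : m ^ 2 ≤ D.relIndex Q) :
    orderOf ((Fintype.card k : ℕ) : ZMod r) * m ≤ cod ρ (Subgroup.zpowers z) :=
  ord_mul_le_cod_zpowers hr hz hk hρ (heis_mlt hr hz hc hQ D hD hm)

end Cfsg.Agent.TwoF.Gen
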