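import Cfsg.Agent.TwoF.Gen.ACD
import Cfsg.Prelude.Def_KGroupFacts

/-!
# TwoF, G2 and G8: consequences of the standing hypotheses, the frame `Y → Aut S`, criteria for `NoOff` (helper10)
-/

set_option autoImplicit false
set_option linter.unusedSectionVars false

namespace Cfsg.Agent.TwoF

open Module Gen
open scoped commutatorElement

variable {p : ℕ} [Fact p.Prime] {Y : Type} [Group Y] {V : Type} [AddCommGroup V] [Module (ZMod p) V]
  {K : Subgroup Y} {ρ : Representation (ZMod p) Y V}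

namespace Stp

variable (h : Stp p K ρ)
include h

theorem perfect : Group.IsPerfect K := h.qs.1

theorem K_ne_bot : K ≠ ⊥ := by
  intro e
  have := h.qs.2
  have : Subsingleton K := by rw [e]; infer_instance
  exact not_subsingleton (K ⧸ Subgroup.center K) (QuotientGroup.mk_surjective.subsingleton)

theorem fx_K : fx ρ K = ⊥ := by
  have := h.normal
  exact h.irr.fx_eq_bot h.faithful (by rw [Subgroup.normalizer_eq_top]) h.K_ne_bot

theorem fx_of_le {N : Subgroup Y} (hN : K ≤ N) : fx ρ N = ⊥ := le_bot_iff.1 (h.fx_K ▸ fx_anti hN)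

theorem cod_of_le {N : Subgroup Y} (hN : K ≤ N) : cod ρ N = finrank (ZMod p) V := cod_of_fx_eq_bot (h.fx_of_le hN)

theorem codOn_of_le (U : Submodule (ZMod p) V) {N : Subgroup Y} (hN : K ≤ N) : codOn ρ U N = finrank (ZMod p) U :=
  codOn_of_inf_eq_bot (by rw [h.fx_of_le hN, inf_bot_eq])

theorem nontrivial : Nontrivial V := by
  by_contra e
  rw [not_nontrivial_iff_subsingleton] at e
  exact h.K_ne_bot (eq_bot_of_fx_eq_top h.faithful (Subsingleton.elim _ _))

theorem centralizer_eq : Subgroup.centralizer (K : Set Y) = (Subgroup.center K).map K.subtype := by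
  ext z
  constructor
  · intro hz
    exact ⟨⟨z, h.cent hz⟩, Subgroup.mem_center_iff.2 fun g => Subtype.ext (hz g g.2), rfl⟩
  · rintro ⟨z, hz, rfl⟩ g hg
    exact congrArg Subtype.val (Subgroup.mem_center_iff.1 hz ⟨g, hg⟩)

theorem card_centralizer : Nat.card (Subgroup.centralizer (K : Set Y)) = Nat.card (Subgroup.center K) := by
  rw [h.centralizer_eq, Subgroup.card_map_of_injective K.subtype_injective]

theorem not_dvd_card {N : Subgroup Y} (hN : N ≤ Subgroup.centralizer (K : Set Y)) : ¬ p ∣ Nat.card N :=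
  fun e => h.cop (h.card_centralizer ▸ e.trans (Subgroup.card_dvd_of_le hN))

theorem le_centralizer_of_commutator {N : Subgroup Y} (hN : ⁅N, K⁆ ≤ Subgroup.centralizer (K : Set Y)) :
    N ≤ Subgroup.centralizer (K : Set Y) :=
  Subgroup.commutator_eq_bot_iff_le_centralizer.1 (Lib.ComponentSolvable.commutator_eq_bot_of_perfect h.perfect
    (Subgroup.commutator_eq_bot_iff_le_centralizer.2 hN))

/-- a subgroup normalised by `K` contains `K` or is central in `K` -/
theorem normal_cases {N : Subgroup Y} (hN : K ≤ Subgroup.normalizer (N : Set Y)) :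
    K ≤ N ∨ N ≤ Subgroup.centralizer (K : Set Y) := by
  have := h.normal
  have h1 : (N.subgroupOf K).Normal := ⟨fun a ha g =>
    (Subgroup.mem_normalizer_iff.1 (hN g.2) (a : Y)).1 ha⟩
  rcases Lib.ComponentSolvable.quasisimple_normal_cases h.qs h1 with e | e
  · exact Or.inl (Subgroup.subgroupOf_eq_top.1 e)
  · refine Or.inr (h.le_centralizer_of_commutator (Subgroup.commutator_le.2 fun a ha g hg => ?_))
    rw [h.centralizer_eq]
    have h2 : ⁅a, g⁆ ∈ K := mul_mem (this.conj_mem g hg a) (inv_mem hg)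
    refine ⟨⟨_, h2⟩, e ?_, rfl⟩
    have h3 := mul_mem ha ((Subgroup.mem_normalizer_iff.1 (hN hg) a⁻¹).1 (inv_mem ha))
    show a * g * a⁻¹ * g⁻¹ ∈ N
    simpa only [← mul_assoc] using h3

variable [Finite Y]

theorem eq_bot_of_le_centralizer {A : Subgroup Y} (hA : IsPGroup p A) (hN : A ≤ Subgroup.centralizer (K : Set Y)) :
    A = ⊥ := by
  obtain ⟨n, hn⟩ := hA.exists_card_eq
  rcases n with _ | n
  · exact Subgroup.card_eq_one.1 hn
  · exact absurd (hn ▸ dvd_pow_self p n.succ_ne_zero) (h.not_dvd_card hN)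

theorem eq_one_of_mem_centralizer {a : Y} {n : ℕ} (ha : a ^ p ^ n = 1) (hN : a ∈ Subgroup.centralizer (K : Set Y)) :
    a = 1 := by
  obtain ⟨m, -, hm⟩ := (Nat.dvd_prime_pow Fact.out).1 (orderOf_dvd_of_pow_eq_one ha)
  exact Subgroup.zpowers_eq_bot.1 (h.eq_bot_of_le_centralizer (IsPGroup.of_card (by rw [Nat.card_zpowers, hm]))
    ((Subgroup.zpowers_le).2 hN))

/-- a subgroup normalised by `K` whose order is divisible by `p` contains `K` -/
theorem le_of_dvd {N : Subgroup Y} (hN : K ≤ Subgroup.normalizer (N : Set Y)) (hp : p ∣ Nat.card N) : K ≤ N :=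
  (h.normal_cases hN).resolve_right fun e => h.not_dvd_card e hp

theorem not_isPGroup {q : ℕ} [Fact q.Prime] : ¬ IsPGroup q K := fun e => by
  have := h.perfect
  have := e.isNilpotent
  have : Nontrivial K := (Subgroup.nontrivial_iff_ne_bot K).2 h.K_ne_bot
  exact Group.IsPerfect.not_isNilpotent K inferInstance

/-- `K` normalises no nontrivial `p`-subgroup -/
theorem eq_bot_of_normal {A : Subgroup Y} (hA : IsPGroup p A) (hN : K ≤ Subgroup.normalizer (A : Set Y)) : A = ⊥ :=
  h.eq_bot_of_le_centralizer hA ((h.normal_cases hN).resolve_left fun e => h.not_isPGroup (hA.to_le e))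

/-- `K` lies in the group generated by the `K`-conjugates of a nontrivial `p`-subgroup -/
theorem le_iSup_conj {A : Subgroup Y} (hA : IsPGroup p A) (h1 : A ≠ ⊥) :
    K ≤ ⨆ g ∈ K, A.map (MulAut.conj g).toMonoidHom := by
  refine (h.normal_cases fun x hx => map_conj_eq_iff.1 (Subgroup.eq_of_le_of_card_ge ?_ (card_map_conj _ _).ge)).resolve_right
    fun e => h1 (h.eq_bot_of_le_centralizer hA (le_trans ?_ e))
  · rw [Subgroup.map_le_iff_le_comap]
    refine iSup₂_le fun g hg => ?_
    rw [← Subgroup.map_le_iff_le_comap, Subgroup.map_map]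
    refine le_trans (le_of_eq ?_) (le_iSup₂_of_le (x * g) (mul_mem hx hg) le_rfl)
    rw [map_mul]
    rfl
  · refine le_iSup₂_of_le 1 (one_mem _) fun a ha => ⟨a, ha, by simp⟩

variable [Finite V]

/-- a subgroup normalised by `K` with the offender inequality contains `K` -/
theorem le_of_ineq {N : Subgroup Y} (hN : K ≤ Subgroup.normalizer (N : Set Y)) (h1 : N ≠ ⊥)
    (h2 : p ^ cod ρ N ≤ Nat.card N ^ 2) : K ≤ N :=
  (h.normal_cases hN).resolve_right fun e => by
    have := central_lt h.faithful h.perfect (e.trans h.cent) e (h.not_dvd_card e) h1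
    rw [Nat.card_zmod] at this
    exact absurd h2 this.not_ge

/-- **an offender bounds the dimension** -/
theorem big {A : Subgroup Y} (hA : Off p ρ A) : p ^ finrank (ZMod p) V ≤ Nat.card ↥(K ⊔ A) ^ 2 := by
  obtain ⟨N, h1, h2, h3, h4, -⟩ := cd_off (Fact.out : p.Prime).pos hA (le_sup_right : A ≤ K ⊔ A)
  rw [← h.cod_of_le (h.le_of_ineq (le_sup_left.trans (Subgroup.le_normalizer.trans h3)) h2 h4)]
  exact h4.trans (Nat.pow_le_pow_left (Subgroup.card_le_of_le h1) 2)

theorem big' {A : Subgroup Y} (hA : Off p ρ A) : p ^ finrank (ZMod p) V ≤ (Nat.card K * K.relIndex A) ^ 2 := by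
  have := h.normal
  rw [← card_sup_of_normal]
  exact h.big hA

/-- G8: generation by conjugates -/
theorem finrank_le_sum {ι : Type*} (s : Finset ι) (A : ι → Subgroup Y) (hK : K ≤ ⨆ i ∈ s, A i) :
    finrank (ZMod p) V ≤ ∑ i ∈ s, cod ρ (A i) := h.cod_of_le hK ▸ cod_biSup_le s A

theorem finrank_le_mul {ι : Type*} (s : Finset ι) (g : ι → Y) (A : Subgroup Y)
    (hK : K ≤ ⨆ i ∈ s, A.map (MulAut.conj (g i)).toMonoidHom) : finrank (ZMod p) V ≤ s.card * cod ρ A := by
  simpa only [cod_conj, Finset.sum_const, smul_eq_mul] using h.finrank_le_sum s _ hK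

theorem finrank_le_of_closure (s : Finset Y) {c : ℕ} (hs : ∀ x ∈ s, cod ρ (Subgroup.zpowers x) ≤ c)
    (hK : K ≤ Subgroup.closure (s : Set Y)) : finrank (ZMod p) V ≤ s.card * c :=
  (h.finrank_le_sum s Subgroup.zpowers (hK.trans ((Subgroup.closure_le _).2 fun x hx =>
    (le_iSup₂_of_le x hx le_rfl : Subgroup.zpowers x ≤ _) (Subgroup.mem_zpowers x)))).trans
    (Finset.sum_le_card_nsmul s _ c hs)

end Stp

/-! ### the frame -/

/-- the projection `π : K → S` and the action `φ : Y → Aut S` -/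
structure Frm (K : Subgroup Y) {S : Type} [Group S] (π : K →* S) (φ : Y →* MulAut S) : Prop where
  surj : Function.Surjective π
  ker_π : π.ker = Subgroup.center K
  conj : ∀ (y : Y) (x x' : K), (x' : Y) = y * x * y⁻¹ → φ y (π x) = π x'
  ker_φ : φ.ker = Subgroup.centralizer (K : Set Y)
  cent : Subgroup.centralizer (K : Set Y) ≤ K

theorem Stp.exists_frm (h : Stp p K ρ) {S : Type} [Group S] (e : Nonempty (K ⧸ Subgroup.center K ≃* S)) :
    ∃ (π : K →* S) (φ : Y →* MulAut S), Frm K π φ := by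
  obtain ⟨e⟩ := e
  have := h.normal
  let π : K →* S := e.toMonoidHom.comp (QuotientGroup.mk' _)
  have hs : Function.Surjective π := e.surjective.comp (QuotientGroup.mk'_surjective _)
  let ψ : Y → MulAut S := fun y => e.symm.trans ((QuotientGroup.congr _ _ (MulAut.conjNormal y)
    (Subgroup.characteristic_iff_map_eq.1 inferInstance _)).trans e)
  have hψ : ∀ y (x : K), ψ y (π x) = π (MulAut.conjNormal y x) := fun y x => by
    show e (QuotientGroup.congr _ _ _ _ (e.symm (e _))) = _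
    rw [e.symm_apply_apply]
    rfl
  let φ : Y →* MulAut S := MonoidHom.mk' ψ fun a b => MulEquiv.ext fun s => by
    obtain ⟨x, rfl⟩ := hs s
    rw [MulAut.mul_apply, hψ, hψ, hψ, map_mul, MulAut.mul_apply]
  have hk : π.ker = Subgroup.center K := by
    rw [← MonoidHom.comap_ker, (MonoidHom.ker_eq_bot_iff _).2 e.injective, MonoidHom.comap_bot,
      QuotientGroup.ker_mk']
  refine ⟨π, φ, hs, hk, fun y x x' e' => (hψ y x).trans (congrArg π (Subtype.ext e'.symm)), le_antisymm ?_ ?_, h.cent⟩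
  · refine h.le_centralizer_of_commutator (Subgroup.commutator_le.2 fun a ha g hg => ?_)
    rw [h.centralizer_eq]
    refine ⟨MulAut.conjNormal a ⟨g, hg⟩ * ⟨g, hg⟩⁻¹, ?_, rfl⟩
    rw [← hk, SetLike.mem_coe, MonoidHom.mem_ker, map_mul, ← hψ, show ψ a = 1 from ha, MulAut.one_apply, map_inv,
      mul_inv_cancel]
  · intro y hy
    refine MulEquiv.ext fun s => ?_
    obtain ⟨x, rfl⟩ := hs s
    refine (hψ y x).trans (congrArg π (Subtype.ext ?_))
    show y * x * y⁻¹ = x
    rw [← hy x x.2, mul_inv_cancel_right]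

namespace Frm

variable {S : Type} [Group S] {π : K →* S} {φ : Y →* MulAut S} (F : Frm K π φ)
include F

theorem φ_coe (x : K) : φ x = MulAut.conj (π x) := MulEquiv.ext fun s => by
  obtain ⟨y, rfl⟩ := F.surj s
  rw [F.conj x y (x * y * x⁻¹) rfl, map_mul, map_mul, map_inv, MulAut.conj_apply]

theorem π_eq_one_iff {x : K} : π x = 1 ↔ (x : Y) ∈ Subgroup.centralizer (K : Set Y) := by
  rw [← MonoidHom.mem_ker, F.ker_π, Subgroup.mem_center_iff]
  exact ⟨fun h g hg => congrArg Subtype.val (h ⟨g, hg⟩), fun h g => Subtype.ext (h g g.2)⟩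

theorem φ_eq_one_iff {y : Y} : φ y = 1 ↔ y ∈ Subgroup.centralizer (K : Set Y) := by
  rw [← F.ker_φ, MonoidHom.mem_ker]

theorem comap_inn : (Inn S).comap φ = K := by
  ext y
  constructor
  · rintro ⟨s, hs⟩
    obtain ⟨x, rfl⟩ := F.surj s
    have h1 : φ ((x : Y)⁻¹ * y) = 1 := by rw [map_mul, map_inv, F.φ_coe, ← hs, inv_mul_cancel]
    simpa using mul_mem x.2 (F.cent (F.φ_eq_one_iff.1 h1))
  · exact fun hy => ⟨_, (F.φ_coe ⟨y, hy⟩).symm⟩

theorem mem_inn_iff {y : Y} : φ y ∈ Inn S ↔ y ∈ K := by rw [← Subgroup.mem_comap, F.comap_inn]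

theorem map_K : K.map φ = Inn S := by
  refine le_antisymm (Subgroup.map_le_iff_le_comap.2 F.comap_inn.ge) ?_
  rintro _ ⟨s, rfl⟩
  obtain ⟨x, rfl⟩ := F.surj s
  exact ⟨x, x.2, F.φ_coe x⟩

theorem relIndex_eq (A : Subgroup Y) : K.relIndex A = (Inn S).relIndex (A.map φ) := by
  rw [← Subgroup.relIndex_comap, F.comap_inn]

theorem relIndex_dvd (A : Subgroup Y) : K.relIndex A ∣ Nat.card (Out S) := by
  rw [F.relIndex_eq]
  exact Subgroup.relIndex_dvd_index_of_normal _ _

theorem index_dvd : K.index ∣ Nat.card (Out S) := Subgroup.relIndex_top_right K ▸ F.relIndex_dvd ⊤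

theorem card_K : Nat.card K = Nat.card (Subgroup.center K) * Nat.card S := by
  rw [← F.ker_π, ← Subgroup.card_mul_index π.ker, Subgroup.index_ker, MonoidHom.range_eq_top.2 F.surj,
    Subgroup.card_top]

theorem stem (hK : Group.IsPerfect K) : IsStemExtension π :=
  ⟨F.surj, F.ker_π.le, hK.commutator_eq_top ▸ le_top⟩

theorem card_center_dvd [Finite Y] (hK : Group.IsPerfect K) {A : Type*} [CommGroup A] (hA : HasSchurMultiplier S A) :
    Nat.card (Subgroup.center K) ∣ Nat.card A := by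
  obtain ⟨f, hf⟩ := hA.2 K π (F.stem hK)
  rw [← F.ker_π]
  exact Subgroup.card_dvd_of_surjective f hf

theorem card_center_dvd' [Finite Y] (hK : Group.IsPerfect K) {n : ℕ} (hA : HasCyclicSchurMultiplier S n) :
    Nat.card (Subgroup.center K) ∣ n := by
  have := F.card_center_dvd hK hA
  rwa [Nat.card_congr Multiplicative.toAdd, Nat.card_zmod] at this

end Frm

section PFrm

variable {S : Type} [Group S] {π : K →* S} {φ : Y →* MulAut S} [Finite Y]

theorem Stp.card_map (h : Stp p K ρ) (F : Frm K π φ) {A : Subgroup Y} (hA : IsPGroup p A) :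
    Nat.card (A.map φ) = Nat.card A := by
  rw [← Subgroup.relIndex_ker, ← Subgroup.inf_relIndex_right, F.ker_φ,
    h.eq_bot_of_le_centralizer (hA.to_inf_right) inf_le_left, Subgroup.relIndex_bot_left]

theorem Stp.eq_one_of_φ (h : Stp p K ρ) (F : Frm K π φ) {a : Y} {n : ℕ} (ha : a ^ p ^ n = 1) (h1 : φ a = 1) : a = 1 :=
  h.eq_one_of_mem_centralizer ha (F.φ_eq_one_iff.1 h1)

/-- the index of `K ⊓ A` in a `p`-subgroup `A` divides the `p`-part of `Out S` -/
theorem Frm.relIndex_dvd_pow (F : Frm K π φ) [Finite S] {A : Subgroup Y} (hA : IsPGroup p A) :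
    K.relIndex A ∣ p ^ (Nat.card (Out S)).factorization p := by
  obtain ⟨n, hn⟩ := hA.exists_card_eq
  obtain ⟨m, -, hm⟩ := (Nat.dvd_prime_pow Fact.out).1 (hn ▸ Subgroup.relIndex_dvd_card K A)
  have h1 := F.relIndex_dvd A
  rw [hm] at h1 ⊢
  exact pow_dvd_pow p (((Fact.out : p.Prime).pow_dvd_iff_le_factorization Nat.card_pos.ne').1 h1)

theorem Frm.le_of_not_dvd (F : Frm K π φ) {A : Subgroup Y} (hA : IsPGroup p A) (h : ¬ p ∣ Nat.card (Out S)) :
    A ≤ K := by
  obtain ⟨n, hn⟩ := hA.exists_card_eq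
  obtain ⟨m, -, hm⟩ := (Nat.dvd_prime_pow Fact.out).1 (hn ▸ Subgroup.relIndex_dvd_card K A)
  rcases m with _ | m
  · exact Subgroup.relIndex_eq_one.1 hm
  · exact absurd ((dvd_pow_self p m.succ_ne_zero).trans (hm ▸ F.relIndex_dvd A)) h

end PFrm

/-! ### criteria for rows -/

section Rows

variable {S : Type} [Group S]

/-- the setting of a row, with the frame -/
structure Sit (p : ℕ) [Fact p.Prime] {Y : Type} [Group Y] {V : Type} [AddCommGroup V] [Module (ZMod p) V]
    (K : Subgroup Y) (ρ : Representation (ZMod p) Y V) {S : Type} [Group S] (π : K →* S) (φ : Y →* MulAut S) :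
    Prop extends Stp p K ρ, Frm K π φ

theorem row88_of_sit (H : ∀ (Y : Type) [Group Y] [Finite Y] (V : Type) [AddCommGroup V] [Module (ZMod p) V] [Finite V]
    (K : Subgroup Y) (ρ : Representation (ZMod p) Y V) (π : K →* S) (φ : Y →* MulAut S), Sit p K ρ π φ → G88 p ρ) :
    Row88 p S := fun Y _ _ V _ _ _ K ρ h e => by
  obtain ⟨π, φ, F⟩ := h.exists_frm e
  exact H Y V K ρ π φ { h, F with }

theorem row89_of_sit (H : ∀ (Y : Type) [Group Y] [Finite Y] (V : Type) [AddCommGroup V] [Module (ZMod p) V] [Finite V]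
    (K : Subgroup Y) (ρ : Representation (ZMod p) Y V) (π : K →* S) (φ : Y →* MulAut S), Sit p K ρ π φ →
      G89r p K ρ) : Row89 p S := fun Y _ _ V _ _ _ K ρ h e => by
  obtain ⟨π, φ, F⟩ := h.exists_frm e
  exact H Y V K ρ π φ { h, F with }

theorem noOff_of_sit (H : ∀ (Y : Type) [Group Y] [Finite Y] (V : Type) [AddCommGroup V] [Module (ZMod p) V] [Finite V]
    (K : Subgroup Y) (ρ : Representation (ZMod p) Y V) (π : K →* S) (φ : Y →* MulAut S), Sit p K ρ π φ →
      ∀ A, ¬ Off p ρ A) : NoOff p S := fun Y _ _ V _ _ _ K ρ h e => by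
  obtain ⟨π, φ, F⟩ := h.exists_frm e
  exact H Y V K ρ π φ { h, F with }

theorem row89_of_not_dvd (h : ¬ p ∣ Nat.card (Out S)) : Row89 p S :=
  row89_of_sit fun _ _ _ _ _ _ _ _ _ _ _ H _ hA _ _ _ h1 => absurd (H.toFrm.le_of_not_dvd (elemAb_isPGroup hA.1) h) h1

theorem noOff_of_not_dvd [Finite S] (h : ¬ p ∣ Nat.card (MulAut S)) : NoOff p S :=
  noOff_of_sit fun _ _ _ _ _ _ _ _ _ _ φ H A hA => by
    obtain ⟨r, hr, e, -⟩ := hA.exists_card
    exact h (((dvd_pow_self p hr.ne').trans (e ▸ H.toStp.card_map H.toFrm (elemAb_isPGroup hA.1)).symm.dvd).trans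
      (Subgroup.card_subgroup_dvd_card (A.map φ)))

/-- lower bound for the dimension of the nontrivial modules of the perfect central extensions of `S` with centre of
order prime to `p` -/
def LB (p : ℕ) [Fact p.Prime] (S : Type) [Group S] (d : ℕ) : Prop :=
  ∀ (K : Type) [Group K] [Finite K] (π : K →* S), Group.IsPerfect K → Function.Surjective π →
    π.ker = Subgroup.center K → ¬ p ∣ Nat.card (Subgroup.center K) →
    ∀ (U : Type) [AddCommGroup U] [Module (ZMod p) U] [Finite U] (σ : Representation (ZMod p) K U),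
      Function.Injective σ → d ≤ finrank (ZMod p) U

theorem LB.le {d : ℕ} (h : LB p S d) [Finite Y] [Finite V] {π : K →* S} {φ : Y →* MulAut S} (H : Sit p K ρ π φ) :
    d ≤ finrank (ZMod p) V :=
  h K π H.toStp.perfect H.surj H.ker_π H.cop V (ρ.comp K.subtype) (H.faithful.comp K.subtype_injective)

theorem Sit.big [Finite Y] [Finite V] [Finite S] {π : K →* S} {φ : Y →* MulAut S} (H : Sit p K ρ π φ) {A : Subgroup Y}
    (hA : Off p ρ A) : p ^ finrank (ZMod p) V ≤
      (Nat.card (Subgroup.center K) * Nat.card S * p ^ (Nat.card (Out S)).factorization p) ^ 2 := by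
  refine (H.toStp.big' hA).trans (Nat.pow_le_pow_left ?_ 2)
  rw [H.toFrm.card_K]
  exact Nat.mul_le_mul_left _ (Nat.le_of_dvd (pow_pos (Fact.out : p.Prime).pos _)
    (H.toFrm.relIndex_dvd_pow (elemAb_isPGroup hA.1)))

/-- no offender if the minimal dimension is large: `z` bounds the centres, `s` the order, `o` the `p`-part of `Out` -/
theorem noOff_of_LB [Finite S] {d z s o : ℕ} (h : LB p S d)
    (hz : ∀ (K : Type) [Group K] [Finite K] (π : K →* S), IsStemExtension π → ¬ p ∣ Nat.card π.ker →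
      Nat.card π.ker ≤ z) (hs : Nat.card S ≤ s) (ho : p ^ (Nat.card (Out S)).factorization p ≤ o)
    (hlt : (z * s * o) ^ 2 < p ^ d) : NoOff p S :=
  noOff_of_sit fun _ _ _ _ _ _ _ K _ π _ H _ hA => by
    have h1 := hz K π (H.toFrm.stem H.toStp.perfect) (H.ker_π ▸ H.cop)
    rw [H.ker_π] at h1
    exact absurd ((Nat.pow_le_pow_right (Fact.out : p.Prime).pos (h.le H)).trans ((H.big hA).trans
      (Nat.pow_le_pow_left (Nat.mul_le_mul (Nat.mul_le_mul h1 hs) ho) 2))) hlt.not_ge

theorem card_ker_le_of_multiplier {A : Type*} [CommGroup A] [Finite A] (hA : HasSchurMultiplier S A) (K : Type)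
    [Group K] [Finite K] (π : K →* S) (h : IsStemExtension π) : Nat.card π.ker ≤ Nat.card A := by
  obtain ⟨f, hf⟩ := hA.2 K π h
  exact Nat.card_le_card_of_surjective f hf

end Rows

end Cfsg.Agent.TwoF
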