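import Cfsg.Agent.TwoF.Gen.ASmall
import Cfsg.Agent.PLocal.PConstrained

/-!
# TwoF, G5: the layers of a non-cubic elementary abelian group (helper14)
-/

set_option autoImplicit false
set_option linter.unusedSectionVars false

namespace Cfsg.Agent.TwoF.Gen

open Module
open scoped commutatorElement

variable {k : Type*} [Field k] {Y : Type*} [Group Y] {V : Type*} [AddCommGroup V] [Module k V]
  {ρ : Representation k Y V}

/-! ### sections -/

/-- the kernel of the action on the section `W / U` -/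
def lk (ρ : Representation k Y V) (U W : Submodule k V) : Subgroup Y := nrm ρ U ⊓ ⨅ w ∈ W, stabQ ρ U w

theorem le_lk_iff {U W : Submodule k V} {B : Subgroup Y} (hU : Inv ρ B U) : B ≤ lk ρ U W ↔ cm ρ W B ≤ U := by
  rw [cm_le_iff, lk, le_inf_iff, le_iInf₂_iff]
  exact ⟨fun h b hb v hv => (h.2 v hv hb).2, fun h => ⟨le_nrm_iff.2 hU, fun v hv b hb =>
    ⟨fun u hu => ⟨hU b hb u hu, hU _ (inv_mem hb) u hu⟩, h b hb v hv⟩⟩⟩

theorem mem_lk {U W : Submodule k V} {N : Subgroup Y} (hU : Inv ρ N U) {g : Y} (hg : g ∈ N) :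
    g ∈ lk ρ U W ↔ ∀ w ∈ W, ρ g w - w ∈ U := by
  rw [lk, Subgroup.mem_inf, Subgroup.mem_iInf]
  simp only [Subgroup.mem_iInf]
  exact ⟨fun h w hw => (h.2 w hw).2, fun h => ⟨le_nrm_iff.2 hU hg, fun w hw =>
    ⟨fun u hu => ⟨hU g hg u hu, hU _ (inv_mem hg) u hu⟩, h w hw⟩⟩⟩

theorem conj_mem_lk {U W : Submodule k V} {N : Subgroup Y} (hU : Inv ρ N U) (hW : Inv ρ N W) {n g : Y} (hn : n ∈ N)
    (hg : g ∈ N) (h : g ∈ lk ρ U W) : n * g * n⁻¹ ∈ lk ρ U W :=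
  (mem_lk hU (mul_mem (mul_mem hn hg) (inv_mem hn))).2 fun w hw => by
    have := hU n hn _ ((mem_lk hU hg).1 h _ (hW _ (inv_mem hn) w hw))
    rwa [map_sub, rho_apply_inv, ← rho_mul, ← rho_mul] at this

/-- the representation on the section `W / U` -/
def sec (ρ : Representation k Y V) {N : Subgroup Y} {U W : Submodule k V} (hU : Inv ρ N U) (hW : Inv ρ N W) :
    Representation k N (W ⧸ U.submoduleOf W) :=
  Representation.quotient (resOn ρ hW) (U.submoduleOf W) fun g _ hv => hU g g.2 _ hv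

theorem sec_mk {N : Subgroup Y} {U W : Submodule k V} (hU : Inv ρ N U) (hW : Inv ρ N W) (g : N) (w : W) :
    sec ρ hU hW g ((U.submoduleOf W).mkQ w) = (U.submoduleOf W).mkQ ⟨ρ g w, hW g g.2 w w.2⟩ := rfl

theorem sec_eq_one_iff {N : Subgroup Y} {U W : Submodule k V} (hU : Inv ρ N U) (hW : Inv ρ N W) (g : N) :
    sec ρ hU hW g = 1 ↔ (g : Y) ∈ lk ρ U W := by
  rw [mem_lk hU g.2]
  constructor
  · intro h w hw
    have h1 := LinearMap.congr_fun h ((U.submoduleOf W).mkQ ⟨w, hw⟩)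
    exact (Submodule.Quotient.eq (U.submoduleOf W)).1 h1
  · intro h
    refine LinearMap.ext fun w => ?_
    obtain ⟨w, rfl⟩ := (U.submoduleOf W).mkQ_surjective w
    exact (Submodule.Quotient.eq _).2 (h w w.2)

theorem finrank_sec [FiniteDimensional k V] {U W : Submodule k V} (h : U ≤ W) :
    finrank k U + finrank k (W ⧸ U.submoduleOf W) = finrank k W := by
  rw [← Submodule.finrank_quotient_add_finrank (U.submoduleOf W), add_comm,
    (Submodule.submoduleOfEquivOfLe h).finrank_eq]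

/-- an `s`-group that acts non-trivially on a section -/
theorem le_finrank_of_order [Finite k] [Finite V] {s n : ℕ} [Fact s.Prime] (hs : ¬ s ∣ Nat.card k)
    (hn : ∀ d, 0 < d → d < n → Nat.card k ^ d % s ≠ 1 % s) {X : Subgroup Y} (hX : IsPGroup s X) {U W : Submodule k V}
    (h : U ≤ W) (hU : Inv ρ X U) (hW : Inv ρ X W) (h1 : ¬ cm ρ W X ≤ U) : finrank k U + n ≤ finrank k W := by
  have : Finite (W ⧸ U.submoduleOf W) := Quotient.finite _
  have h2 := pow_cod_modEq (ρ := sec ρ hU hW) hs (hX.to_subgroup ⊤)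
  have h3 : 0 < cod (sec ρ hU hW) ⊤ := Nat.pos_of_ne_zero fun e => h1 ((le_lk_iff hU).1 fun g hg =>
    (sec_eq_one_iff hU hW ⟨g, hg⟩).1 (cod_eq_zero_iff.1 e trivial))
  have h4 : n ≤ cod (sec ρ hU hW) ⊤ := le_of_not_gt fun e => hn _ h3 e h2
  have h5 := cod_le_finrank (ρ := sec ρ hU hW) ⊤
  have h6 := finrank_sec h
  omega

/-! ### invariant functionals and forms -/

/-- `f` is additive on `A` -/
def AddOn (A : Subgroup Y) (f : Y → k) : Prop := ∀ a ∈ A, ∀ b ∈ A, f (a * b) = f a + f b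

theorem AddOn.one {A : Subgroup Y} {f : Y → k} (h : AddOn A f) : f 1 = 0 := by
  have := h 1 (one_mem _) 1 (one_mem _)
  rw [one_mul] at this
  exact left_eq_add.1 this

theorem AddOn.inv {A : Subgroup Y} {f : Y → k} (h : AddOn A f) {a : Y} (ha : a ∈ A) : f a⁻¹ = -f a := by
  have := h a ha _ (inv_mem ha)
  rw [mul_inv_cancel, h.one] at this
  exact (neg_eq_of_add_eq_zero_right this.symm).symm

theorem AddOn.pow {A : Subgroup Y} {f : Y → k} (h : AddOn A f) {a : Y} (ha : a ∈ A) (n : ℕ) : f (a ^ n) = n * f a := by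
  induction n with
  | zero => simp [h.one]
  | succ n ih => rw [pow_succ, h _ (pow_mem ha n) a ha, ih, Nat.cast_succ, add_mul, one_mul]

/-- the common kernel of a family of additive functions -/
def kerOn (A : Subgroup Y) {ι : Type*} (f : ι → Y → k) (h : ∀ i, AddOn A (f i)) : Subgroup Y where
  carrier := {a | a ∈ A ∧ ∀ i, f i a = 0}
  one_mem' := ⟨one_mem _, fun i => (h i).one⟩
  mul_mem' := fun {a b} ha hb => ⟨mul_mem ha.1 hb.1, fun i => by rw [h i a ha.1 b hb.1, ha.2, hb.2, add_zero]⟩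
  inv_mem' := fun {a} ha => ⟨inv_mem ha.1, fun i => by rw [(h i).inv ha.1, ha.2, neg_zero]⟩

theorem mem_kerOn {A : Subgroup Y} {ι : Type*} {f : ι → Y → k} {h : ∀ i, AddOn A (f i)} {a : Y} :
    a ∈ kerOn A f h ↔ a ∈ A ∧ ∀ i, f i a = 0 := Iff.rfl

/-- a symmetric (in characteristic two: alternating) `H`-invariant form on `A` -/
structure SymF (A H : Subgroup Y) (B : Y → Y → k) : Prop where
  add : ∀ b ∈ A, AddOn A fun a => B a b
  symm : ∀ a ∈ A, ∀ b ∈ A, B a b = B b a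
  alt : (2 : k) = 0 → ∀ a ∈ A, B a a = 0
  inv : ∀ h ∈ H, ∀ a ∈ A, ∀ b ∈ A, B (h * a * h⁻¹) (h * b * h⁻¹) = B a b

/-- no non-zero functional on `A` has an `H`-invariant kernel -/
def NoLin (k : Type*) [Field k] (A H : Subgroup Y) : Prop :=
  ∀ f : Y → k, AddOn A f → (∀ h ∈ H, ∀ a ∈ A, f a = 0 → f (h * a * h⁻¹) = 0) → ∀ a ∈ A, f a = 0

/-- the space of `H`-invariant symmetric forms on `A` has dimension at most one -/
def OneForm (k : Type*) [Field k] (A H : Subgroup Y) : Prop :=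
  ∀ B B' : Y → Y → k, SymF A H B → SymF A H B' →
    ∃ s t : k, (s ≠ 0 ∨ t ≠ 0) ∧ ∀ a ∈ A, ∀ b ∈ A, s * B a b = t * B' a b

theorem NoLin.mono {A H H' : Subgroup Y} (h : NoLin k A H) (hH : H ≤ H') : NoLin k A H' :=
  fun f h1 h2 => h f h1 fun g hg => h2 g (hH hg)

theorem OneForm.mono {A H H' : Subgroup Y} (h : OneForm k A H) (hH : H ≤ H') : OneForm k A H' :=
  fun B B' h1 h2 => h B B' ⟨h1.add, h1.symm, h1.alt, fun g hg => h1.inv g (hH hg)⟩
    ⟨h2.add, h2.symm, h2.alt, fun g hg => h2.inv g (hH hg)⟩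

theorem conj_mem_of_normalizer' {A : Subgroup Y} {h a : Y} (hh : h ∈ Subgroup.normalizer (A : Set Y)) (ha : a ∈ A) :
    h⁻¹ * a * h ∈ A := by
  have := (Subgroup.mem_normalizer_iff.1 (inv_mem hh) a).1 ha
  rwa [inv_inv] at this

theorem conj_sub_one (h a : Y) (v : V) : (ρ (h * a * h⁻¹) - 1) v = ρ h ((ρ a - 1) (ρ h⁻¹ v)) := by
  simp only [LinearMap.sub_apply, Module.End.one_apply, map_sub, rho_mul, rho_apply_inv]

theorem asc_step {A : Subgroup Y} {i : ℕ} {v : V} (hv : v ∈ asc ρ A (i + 1)) {a : Y} (ha : a ∈ A) :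
    (ρ a - 1) v ∈ asc ρ A i := hv a ha

theorem addOn_asc {A : Subgroup Y} {i : ℕ} {v : V} (hv : v ∈ asc ρ A (i + 2)) (φ : V →ₗ[k] k)
    (hφ : ∀ u ∈ asc ρ A i, φ u = 0) : AddOn A fun a => φ ((ρ a - 1) v) := fun a ha b hb => by
  show φ _ = φ _ + φ _
  rw [mul_sub_one, map_add, map_add, hφ _ (asc_step (asc_step hv hb) ha), add_zero]

theorem apply_rho_eq {H : Subgroup Y} {U W : Submodule k V} (h : cm ρ W H ≤ U) {φ : V →ₗ[k] k}
    (hφ : ∀ u ∈ U, φ u = 0) {g : Y} (hg : g ∈ H) {w : V} (hw : w ∈ W) : φ (ρ g w) = φ w := by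
  rw [← sub_eq_zero, ← map_sub]
  exact hφ _ (h (mem_cm hg hw))

theorem exists_dual_of_notMem {U : Submodule k V} {v : V} (h : v ∉ U) :
    ∃ φ : V →ₗ[k] k, φ v ≠ 0 ∧ ∀ u ∈ U, φ u = 0 := by
  obtain ⟨φ, h1, h2⟩ := U.exists_dual_map_eq_bot_of_notMem h inferInstance
  exact ⟨φ, h1, fun u hu => (Submodule.mem_bot k).1 (h2 ▸ Submodule.mem_map_of_mem hu)⟩

/-- two consecutive layers are not both trivial -/
theorem asc_le_of_consec {A H : Subgroup Y} (hN : NoLin k A H) {i : ℕ} (h1 : cm ρ (asc ρ A (i + 1)) H ≤ asc ρ A i)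
    (h2 : cm ρ (asc ρ A (i + 2)) H ≤ asc ρ A (i + 1)) : asc ρ A (i + 2) ≤ asc ρ A (i + 1) := by
  intro v hv a ha
  by_contra h3
  obtain ⟨φ, h4, hφ⟩ := exists_dual_of_notMem h3
  refine h4 (hN _ (addOn_asc hv φ hφ) (fun h hh b hb e => ?_) a ha)
  have h5 := h2 (mem_cm (inv_mem hh) hv)
  have h6 : (ρ b - 1) (ρ h⁻¹ v) = (ρ b - 1) v + (ρ b - 1) (ρ h⁻¹ v - v) := by rw [← map_add, add_sub_cancel]
  show φ _ = 0
  rw [conj_sub_one, apply_rho_eq h1 hφ hh (by rw [h6]; exact add_mem (hv b hb) (asc_le_succ A i (h5 b hb))), h6,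
    map_add, hφ _ (asc_step h5 hb), add_zero]
  exact e

variable {p : ℕ} [Fact p.Prime] [CharP k p]

theorem sub_one_sq_of_two {A : Subgroup Y} (hA : IsElementaryAbelian p A) (h2 : (2 : k) = 0) {a : Y} (ha : a ∈ A)
    (u : V) : (ρ a - 1) ((ρ a - 1) u) = 0 := by
  have h3 : p = 2 := (Nat.prime_dvd_prime_iff_eq Fact.out Nat.prime_two).1
    ((CharP.cast_eq_zero_iff k p 2).1 (by exact_mod_cast h2))
  have := sub_one_pow (ρ := ρ) (p := p) (n := 1) (by rw [pow_one]; exact hA.2 a ha)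
  rw [pow_one, h3, pow_two] at this
  exact DFunLike.congr_fun this u

theorem symF_asc {A H : Subgroup Y} (hA : IsElementaryAbelian p A) {i : ℕ}
    (h1 : cm ρ (asc ρ A (i + 1)) H ≤ asc ρ A i) (h3 : cm ρ (asc ρ A (i + 3)) H ≤ asc ρ A (i + 2)) {v : V}
    (hv : v ∈ asc ρ A (i + 3)) (φ : V →ₗ[k] k) (hφ : ∀ u ∈ asc ρ A i, φ u = 0) :
    SymF A H fun a b => φ ((ρ a - 1) ((ρ b - 1) v)) where
  add b hb := addOn_asc (hv b hb) φ hφ
  symm a ha b hb := by rw [sub_one_comm (elemAb_comm hA ha hb)]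
  alt h2 a ha := by rw [sub_one_sq_of_two hA h2 ha, map_zero]
  inv h hh a ha b hb := by
    have h5 := h3 (mem_cm (inv_mem hh) hv)
    have h6 : (ρ a - 1) ((ρ b - 1) (ρ h⁻¹ v)) =
        (ρ a - 1) ((ρ b - 1) v) + (ρ a - 1) ((ρ b - 1) (ρ h⁻¹ v - v)) := by
      rw [← map_add, ← map_add, add_sub_cancel]
    rw [conj_sub_one, conj_sub_one, rho_inv_apply, apply_rho_eq h1 hφ hh
      (by rw [h6]; exact add_mem (hv b hb a ha) (asc_le_succ A i (h5 b hb a ha))), h6, map_add,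
      hφ _ (asc_step (asc_step h5 hb) ha), add_zero]

/-- the layers `i + 1` and `i + 3` are not both trivial -/
theorem asc_le_of_gap {A H : Subgroup Y} (hA : IsElementaryAbelian p A) (hH : H ≤ Subgroup.normalizer (A : Set Y))
    (hN : NoLin k A H) (hF : OneForm k A H) {i : ℕ} (h1 : cm ρ (asc ρ A (i + 2)) H ≤ asc ρ A (i + 1))
    (h3 : cm ρ (asc ρ A (i + 4)) H ≤ asc ρ A (i + 3)) : asc ρ A (i + 4) ≤ asc ρ A (i + 3) := by
  intro v hv b₀ hb₀ a₀ ha₀ c₀ hc₀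
  by_contra h4
  obtain ⟨ψ, h5, hψ⟩ := exists_dual_of_notMem h4
  have hS : ∀ c ∈ A, SymF A H fun a b => ψ ((ρ c - 1) ((ρ a - 1) ((ρ b - 1) v))) := fun c hc =>
    symF_asc hA h1 h3 hv (ψ ∘ₗ (ρ c - 1)) fun u hu => hψ _ (hu c hc)
  refine h5 (hN (fun c => ψ ((ρ c - 1) ((ρ a₀ - 1) ((ρ b₀ - 1) v)))) (addOn_asc (hv b₀ hb₀ a₀ ha₀) ψ hψ)
    (fun h hh c hc e => ?_) c₀ hc₀)
  obtain ⟨s, t, hst, h6⟩ := hF _ _ (hS c₀ hc₀) (hS c hc)
  have h7 := h6 a₀ ha₀ b₀ hb₀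
  rw [e, mul_zero] at h7
  have h8 : s = 0 := (mul_eq_zero.1 h7).resolve_right h5
  have h9 := conj_mem_of_normalizer' (hH hh) hb₀
  have h10 := h6 a₀ ha₀ _ h9
  rw [h8, zero_mul] at h10
  have h11 := (mul_eq_zero.1 h10.symm).resolve_left (hst.resolve_left fun e => e h8)
  have h12 := (hS a₀ ha₀).inv h hh c hc _ h9
  rw [show h * (h⁻¹ * b₀ * h) * h⁻¹ = b₀ by group] at h12
  show ψ _ = 0
  rw [sub_one_comm (elemAb_comm hA ((Subgroup.mem_normalizer_iff.1 (hH hh) c).1 hc) ha₀), h12,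
    sub_one_comm (elemAb_comm hA ha₀ hc), h11]

variable [FiniteDimensional k V]

/-- **G5.** `A` is normalised by `N`; every normal subgroup of `N` that contains `X` leaves no hyperplane of `A` and at
most one symmetric form invariant; the sections on which `X` acts non-trivially have dimension at least `n`. -/
theorem layers {A N X : Subgroup Y} [Finite A] (hA : IsElementaryAbelian p A)
    (hN : N ≤ Subgroup.normalizer (A : Set Y)) (hXN : X ≤ N)
    (hX : ∀ H, X ≤ H → H ≤ N → (∀ n ∈ N, ∀ h ∈ H, n * h * n⁻¹ ∈ H) → NoLin k A H ∧ OneForm k A H)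
    (hc : ¬ Cub ρ A) {n : ℕ} (hn : ∀ U W : Submodule k V, U ≤ W → Inv ρ N U → Inv ρ N W → cm ρ W A ≤ U →
      ¬ cm ρ W X ≤ U → finrank k U + n ≤ finrank k W) : 2 * n + 1 ≤ cod ρ A := by
  have hI := inv_asc (ρ := ρ) hN
  have hlt : ∀ i ≤ 3, asc ρ A i < asc ρ A (i + 1) := fun i hi => asc_lt (elemAb_isPGroup hA) fun e =>
    hc (cub_iff_asc.2 (top_le_iff.1 (e ▸ asc_mono A hi)))
  have key : ∀ i j, cm ρ (asc ρ A (i + 1)) X ≤ asc ρ A i → cm ρ (asc ρ A (j + 1)) X ≤ asc ρ A j →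
      ∃ H ≤ N, NoLin k A H ∧ OneForm k A H ∧ cm ρ (asc ρ A (i + 1)) H ≤ asc ρ A i ∧
        cm ρ (asc ρ A (j + 1)) H ≤ asc ρ A j := fun i j hi hj => by
    obtain ⟨h1, h2⟩ := hX (N ⊓ (lk ρ (asc ρ A i) (asc ρ A (i + 1)) ⊓ lk ρ (asc ρ A j) (asc ρ A (j + 1))))
      (le_inf hXN (le_inf ((le_lk_iff ((hI i).mono hXN)).2 hi) ((le_lk_iff ((hI j).mono hXN)).2 hj))) inf_le_left
      fun g hg h hh => ⟨N.mul_mem (N.mul_mem hg hh.1) (N.inv_mem hg), conj_mem_lk (hI _) (hI _) hg hh.1 hh.2.1,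
        conj_mem_lk (hI _) (hI _) hg hh.1 hh.2.2⟩
    exact ⟨_, inf_le_left, h1, h2, (le_lk_iff ((hI i).mono inf_le_left)).1 (inf_le_right.trans inf_le_left),
      (le_lk_iff ((hI j).mono inf_le_left)).1 (inf_le_right.trans inf_le_right)⟩
  have hbig : ∀ i, ¬ cm ρ (asc ρ A (i + 1)) X ≤ asc ρ A i → finrank k (asc ρ A i) + n ≤ finrank k (asc ρ A (i + 1)) :=
    fun i => hn _ _ (asc_le_succ A i) (hI _) (hI _) (le_fxQ_iff.1 le_rfl)
  have l1 : finrank k (asc ρ A 1) < finrank k (asc ρ A 2) := Submodule.finrank_lt_finrank_of_lt (hlt 1 (by omega))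
  have l2 : finrank k (asc ρ A 2) < finrank k (asc ρ A 3) := Submodule.finrank_lt_finrank_of_lt (hlt 2 (by omega))
  have l3 : finrank k (asc ρ A 3) < finrank k (asc ρ A 4) := Submodule.finrank_lt_finrank_of_lt (hlt 3 (by omega))
  have h4 := Submodule.finrank_le (asc ρ A 4)
  have h5 := cod_add (ρ := ρ) A
  rw [← asc_one] at h5
  have b1 : _ → finrank k (asc ρ A 1) + n ≤ finrank k (asc ρ A 2) := hbig 1
  have b2 : _ → finrank k (asc ρ A 2) + n ≤ finrank k (asc ρ A 3) := hbig 2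
  have b3 : _ → finrank k (asc ρ A 3) + n ≤ finrank k (asc ρ A 4) := hbig 3
  by_cases c1 : cm ρ (asc ρ A (1 + 1)) X ≤ asc ρ A 1
  · have c2 : ¬ cm ρ (asc ρ A (2 + 1)) X ≤ asc ρ A 2 := fun c2 => by
      obtain ⟨H, -, h1, -, h2, h3⟩ := key 1 2 c1 c2
      exact (hlt 2 (by omega)).not_ge (asc_le_of_consec h1 h2 h3)
    have c3 : ¬ cm ρ (asc ρ A (3 + 1)) X ≤ asc ρ A 3 := fun c3 => by
      obtain ⟨H, h0, h1, h1', h2, h3⟩ := key 1 3 c1 c3
      exact (hlt 3 le_rfl).not_ge (asc_le_of_gap (i := 0) hA (h0.trans hN) h1 h1' h2 h3)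
    have := b2 c2
    have := b3 c3
    omega
  · have := b1 c1
    by_cases c2 : cm ρ (asc ρ A (2 + 1)) X ≤ asc ρ A 2
    · have c3 : ¬ cm ρ (asc ρ A (3 + 1)) X ≤ asc ρ A 3 := fun c3 => by
        obtain ⟨H, -, h1, -, h2, h3⟩ := key 2 3 c2 c3
        exact (hlt 3 le_rfl).not_ge (asc_le_of_consec h1 h2 h3)
      have := b3 c3
      omega
    · have := b2 c2
      omega

/-- **G5**, one group `H` -/
theorem layers' {A H : Subgroup Y} [Finite A] (hA : IsElementaryAbelian p A) (hH : H ≤ Subgroup.normalizer (A : Set Y))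
    (h1 : NoLin k A H) (h2 : OneForm k A H) (hc : ¬ Cub ρ A) {n : ℕ}
    (hn : ∀ U W : Submodule k V, U ≤ W → Inv ρ H U → Inv ρ H W → cm ρ W A ≤ U →
      ¬ cm ρ W H ≤ U → finrank k U + n ≤ finrank k W) : 2 * n + 1 ≤ cod ρ A :=
  layers hA hH le_rfl (fun _ h _ _ => ⟨h1.mono h, h2.mono h⟩) hc hn

/-- **G5** with an `s`-group `X` -/
theorem layers_of_order [Finite k] [Finite V] {A N X : Subgroup Y} [Finite A] (hA : IsElementaryAbelian p A)
    (hN : N ≤ Subgroup.normalizer (A : Set Y)) (hXN : X ≤ N)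
    (hX : ∀ H, X ≤ H → H ≤ N → (∀ n ∈ N, ∀ h ∈ H, n * h * n⁻¹ ∈ H) → NoLin k A H ∧ OneForm k A H)
    (hc : ¬ Cub ρ A) {s n : ℕ} [Fact s.Prime] (hs : ¬ s ∣ Nat.card k) (hXs : IsPGroup s X)
    (hn : ∀ d, 0 < d → d < n → Nat.card k ^ d % s ≠ 1 % s) : 2 * n + 1 ≤ cod ρ A :=
  layers hA hN hXN hX hc fun _ _ h hU hW _ h1 => le_finrank_of_order hs hn hXs h (hU.mono hXN) (hW.mono hXN) h1

/-! ### criteria for `NoLin` and `OneForm` -/

/-- `H` leaves no proper non-trivial subgroup of `A` invariant -/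
def IrrOn {G : Type*} [Group G] (A H : Subgroup G) : Prop :=
  ∀ E ≤ A, (∀ h ∈ H, ∀ e ∈ E, h * e * h⁻¹ ∈ E) → E = ⊥ ∨ E = A

omit [FiniteDimensional k V] in
theorem noLin_of_irr [Finite k] {A H : Subgroup Y} (hH : H ≤ Subgroup.normalizer (A : Set Y)) (h : IrrOn A H)
    (hc : Nat.card k < Nat.card A) : NoLin k A H := by
  intro f h1 h2 a ha
  rcases h (kerOn A (fun _ : Unit => f) fun _ => h1) (fun _ hb => hb.1) (fun g hg e he =>
    ⟨(Subgroup.mem_normalizer_iff.1 (hH hg) e).1 he.1, fun _ => h2 g hg e he.1 (he.2 ())⟩) with e | e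
  · refine absurd (Nat.card_le_card_of_injective (fun b : A => f b) fun b c hbc => ?_) hc.not_ge
    have h3 : (b : Y)⁻¹ * c ∈ kerOn A (fun _ : Unit => f) fun _ => h1 :=
      ⟨mul_mem (inv_mem b.2) c.2, fun _ => by
        beta_reduce
        rw [h1 _ (inv_mem b.2) _ c.2, h1.inv b.2, show f b = f c from hbc, neg_add_cancel]⟩
    rw [e, Subgroup.mem_bot, inv_mul_eq_one] at h3
    exact Subtype.ext h3
  · exact (e.ge ha).2 ()

omit [FiniteDimensional k V] in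
/-- `X ≤ H` fixes `a₀ ≠ 1` and `A = ⟨⁅A, X⁆, a₁⟩` -/
theorem oneForm_of_irr {A H X : Subgroup Y} (hH : H ≤ Subgroup.normalizer (A : Set Y)) (h : IrrOn A H) (hX : X ≤ H)
    {a₀ a₁ : Y} (h0 : a₀ ∈ A) (h1 : a₀ ≠ 1) (h2 : ∀ x ∈ X, x * a₀ = a₀ * x) (h3 : a₁ ∈ A)
    (h4 : A ≤ ⁅X, A⁆ ⊔ Subgroup.zpowers a₁) : OneForm k A H := by
  intro B B' hB hB'
  have key : ∀ s t : k, s * B a₁ a₀ = t * B' a₁ a₀ → ∀ a ∈ A, ∀ b ∈ A, s * B a b = t * B' a b := by
    intro s t hst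
    have hadd : ∀ b : A, AddOn A fun a => s * B a b - t * B' a b := fun b a ha c hc => by
      have e1 := hB.add b b.2 a ha c hc
      have e2 := hB'.add b b.2 a ha c hc
      simp only at e1 e2 ⊢
      rw [e1, e2]
      ring
    have h5 : A ≤ kerOn A (fun _ : Unit => fun a => s * B a a₀ - t * B' a a₀) fun _ => hadd ⟨a₀, h0⟩ := by
      refine h4.trans (sup_le (Subgroup.commutator_le.2 fun x hx a ha => ?_)
        ((Subgroup.zpowers_le).2 ⟨h3, fun _ => sub_eq_zero.2 hst⟩))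
      have h6 := (Subgroup.mem_normalizer_iff.1 (hH (hX hx)) a).1 ha
      refine ⟨mul_mem h6 (inv_mem ha), fun _ => ?_⟩
      have e1 := hB.inv x (hX hx) a ha a₀ h0
      have e2 := hB'.inv x (hX hx) a ha a₀ h0
      rw [h2 x hx, mul_inv_cancel_right] at e1 e2
      refine (hadd ⟨a₀, h0⟩ _ h6 _ (inv_mem ha)).trans ((congrArg _ ((hadd ⟨a₀, h0⟩).inv ha)).trans ?_)
      simp only [e1, e2, add_neg_cancel]
    rcases h (kerOn A _ hadd) (fun _ hb => hb.1) (fun g hg e he =>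
      ⟨(Subgroup.mem_normalizer_iff.1 (hH hg) e).1 he.1, fun b => by
        have h6 := conj_mem_of_normalizer' (hH hg) b.2
        have e1 := hB.inv g hg e he.1 _ h6
        have e2 := hB'.inv g hg e he.1 _ h6
        rw [show g * (g⁻¹ * b * g) * g⁻¹ = b by group] at e1 e2
        beta_reduce
        rw [e1, e2]
        exact he.2 ⟨_, h6⟩⟩) with e | e
    · refine absurd (Subgroup.mem_bot.1 (e ▸ (⟨h0, fun b => ?_⟩ : a₀ ∈ kerOn A _ hadd))) h1
      beta_reduce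
      rw [hB.symm _ h0 _ b.2, hB'.symm _ h0 _ b.2]
      exact (h5 b.2).2 ()
    · exact fun a ha b hb => sub_eq_zero.1 ((e.ge ha).2 ⟨b, hb⟩)
  by_cases h5 : B a₁ a₀ = 0
  · exact ⟨1, 0, Or.inl one_ne_zero, key 1 0 (by rw [h5, mul_zero, zero_mul])⟩
  · exact ⟨B' a₁ a₀, B a₁ a₀, Or.inr h5, key _ _ (mul_comm _ _)⟩

omit [FiniteDimensional k V] [CharP k p] in
/-- an element `x` with `|C_A(x)| = p` -/
theorem oneForm_of_card {A H : Subgroup Y} [Finite A] (hA : IsElementaryAbelian p A)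
    (hH : H ≤ Subgroup.normalizer (A : Set Y)) (h : IrrOn A H) {x : Y} (hx : x ∈ H)
    (hc : Nat.card ↥(A ⊓ Subgroup.centralizer {x}) = p) : OneForm k A H := by
  have hp : p.Prime := Fact.out
  have hn := (Subgroup.mem_normalizer_iff.1 (hH hx))
  let f : A →* A :=
    { toFun := fun a => ⟨x * a * x⁻¹ * (a : Y)⁻¹, mul_mem ((hn a).1 a.2) (inv_mem a.2)⟩
      map_one' := Subtype.ext (by simp)
      map_mul' := fun a b => Subtype.ext (by
        show x * (a * b) * x⁻¹ * ((a : Y) * b)⁻¹ = x * a * x⁻¹ * (a : Y)⁻¹ * (x * b * x⁻¹ * (b : Y)⁻¹)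
        rw [mul_assoc (x * a * x⁻¹) _ (_ * _), elemAb_comm hA (inv_mem a.2) (mul_mem ((hn b).1 b.2) (inv_mem b.2))]
        group) }
  have h1 : f.ker = (A ⊓ Subgroup.centralizer {x}).subgroupOf A := by
    ext a
    rw [MonoidHom.mem_ker, Subgroup.mem_subgroupOf, Subgroup.mem_inf, Subgroup.mem_centralizer_singleton_iff,
      Subtype.ext_iff]
    show x * a * x⁻¹ * (a : Y)⁻¹ = 1 ↔ _
    rw [mul_inv_eq_one, mul_inv_eq_iff_eq_mul]
    exact ⟨fun e => ⟨a.2, e.symm⟩, fun e => e.2.symm⟩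
  have h2 : Nat.card f.ker = p := by rw [h1, Nat.card_congr (Subgroup.subgroupOfEquivOfLe inf_le_left).toEquiv, hc]
  have h3 : f.range.index = p := by
    have e1 := f.ker.card_mul_index
    have e2 := f.range.card_mul_index
    rw [Subgroup.index_ker, h2, mul_comm, ← e2] at e1
    exact (Nat.eq_of_mul_eq_mul_left Nat.card_pos e1).symm
  obtain ⟨a₀, h4, h5⟩ : ∃ a₀ ∈ A ⊓ Subgroup.centralizer {x}, a₀ ≠ 1 := by
    by_contra e
    push Not at e
    rw [(Subgroup.eq_bot_iff_forall _).2 e, Subgroup.card_bot] at hc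
    exact hp.one_lt.ne hc
  obtain ⟨a₁, h6⟩ : ∃ a₁, a₁ ∉ f.range := by
    by_contra e
    push Not at e
    rw [(Subgroup.eq_top_iff' _).2 e, Subgroup.index_top] at h3
    exact hp.one_lt.ne h3
  have h7 : f.range ⊔ Subgroup.zpowers a₁ = ⊤ := by
    rcases (Nat.dvd_prime hp).1 (h3 ▸ Subgroup.index_dvd_of_le (le_sup_left : f.range ≤ f.range ⊔ Subgroup.zpowers a₁))
      with e | e
    · exact Subgroup.index_eq_one.1 e
    · have e1 := Subgroup.relIndex_mul_index (le_sup_left : f.range ≤ f.range ⊔ Subgroup.zpowers a₁)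
      rw [e, h3] at e1
      exact absurd (Subgroup.relIndex_eq_one.1 (Nat.eq_of_mul_eq_mul_right hp.pos (e1.trans (one_mul p).symm))
        (Subgroup.mem_sup_right (Subgroup.mem_zpowers a₁))) h6
  refine oneForm_of_irr (X := Subgroup.zpowers x) hH h ((Subgroup.zpowers_le).2 hx) h4.1 h5 ?_ a₁.2 fun a ha => ?_
  · rintro _ ⟨n, rfl⟩
    exact (Commute.zpow_left (Subgroup.mem_centralizer_singleton_iff.1 h4.2).symm n).eq
  · have h8 : f.range ⊔ Subgroup.zpowers a₁ ≤ (⁅Subgroup.zpowers x, A⁆ ⊔ Subgroup.zpowers (a₁ : Y)).subgroupOf A :=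
      sup_le (by
        rintro _ ⟨b, rfl⟩
        exact Subgroup.mem_sup_left (Subgroup.commutator_mem_commutator (Subgroup.mem_zpowers x) b.2))
        ((Subgroup.zpowers_le).2 (Subgroup.mem_sup_right (Subgroup.mem_zpowers _)))
    exact h8 (h7.ge (Subgroup.mem_top ⟨a, ha⟩))

/-! ### transfer along a homomorphism -/

section Transfer

variable {G : Type*} [Group G] (φ : Y →* G)

omit [FiniteDimensional k V] in
theorem exists_sec {A : Subgroup Y} (h : Set.InjOn φ A) : ∃ σ : G → Y, ∀ a ∈ A, σ (φ a) = a :=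
  ⟨Function.invFunOn φ A, fun _ ha => h.leftInvOn_invFunOn ha⟩

omit [FiniteDimensional k V] in
theorem AddOn.map {A : Subgroup Y} {f : Y → k} (h : AddOn A f) {σ : G → Y} (hσ : ∀ a ∈ A, σ (φ a) = a) :
    AddOn (A.map φ) fun g => f (σ g) := by
  rintro _ ⟨a, ha, rfl⟩ _ ⟨b, hb, rfl⟩
  beta_reduce
  rw [← map_mul, hσ _ (mul_mem ha hb), hσ a ha, hσ b hb, h a ha b hb]

omit [FiniteDimensional k V] in
theorem NoLin.of_map {A H : Subgroup Y} (hi : Set.InjOn φ A) (hH : H ≤ Subgroup.normalizer (A : Set Y))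
    (h : NoLin k (A.map φ) (H.map φ)) : NoLin k A H := by
  obtain ⟨σ, hσ⟩ := exists_sec φ hi
  intro f h1 h2 a ha
  rw [← hσ a ha]
  refine h _ (h1.map φ hσ) ?_ _ ⟨a, ha, rfl⟩
  rintro _ ⟨g, hg, rfl⟩ _ ⟨b, hb, rfl⟩ e
  rw [hσ b hb] at e
  rw [← map_inv, ← map_mul, ← map_mul, hσ _ ((Subgroup.mem_normalizer_iff.1 (hH hg) b).1 hb)]
  exact h2 g hg b hb e

omit [FiniteDimensional k V] in
theorem SymF.map {A H : Subgroup Y} (hH : H ≤ Subgroup.normalizer (A : Set Y)) {B : Y → Y → k} (h : SymF A H B)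
    {σ : G → Y} (hσ : ∀ a ∈ A, σ (φ a) = a) : SymF (A.map φ) (H.map φ) fun a b => B (σ a) (σ b) where
  add := by
    rintro _ ⟨b, hb, rfl⟩
    rw [hσ b hb]
    exact (h.add b hb).map φ hσ
  symm := by
    rintro _ ⟨a, ha, rfl⟩ _ ⟨b, hb, rfl⟩
    rw [hσ a ha, hσ b hb, h.symm a ha b hb]
  alt h2 := by
    rintro _ ⟨a, ha, rfl⟩
    rw [hσ a ha, h.alt h2 a ha]
  inv := by
    rintro _ ⟨g, hg, rfl⟩ _ ⟨a, ha, rfl⟩ _ ⟨b, hb, rfl⟩
    rw [← map_inv, ← map_mul, ← map_mul, ← map_mul, ← map_mul, hσ a ha, hσ b hb,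
      hσ _ ((Subgroup.mem_normalizer_iff.1 (hH hg) a).1 ha), hσ _ ((Subgroup.mem_normalizer_iff.1 (hH hg) b).1 hb),
      h.inv g hg a ha b hb]

omit [FiniteDimensional k V] in
theorem OneForm.of_map {A H : Subgroup Y} (hi : Set.InjOn φ A) (hH : H ≤ Subgroup.normalizer (A : Set Y))
    (h : OneForm k (A.map φ) (H.map φ)) : OneForm k A H := by
  obtain ⟨σ, hσ⟩ := exists_sec φ hi
  intro B B' h1 h2
  obtain ⟨s, t, h3, h4⟩ := h _ _ (h1.map φ hH hσ) (h2.map φ hH hσ)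
  refine ⟨s, t, h3, fun a ha b hb => ?_⟩
  have := h4 _ ⟨a, ha, rfl⟩ _ ⟨b, hb, rfl⟩
  rwa [hσ a ha, hσ b hb] at this

omit [FiniteDimensional k V] [CharP k p] in
theorem injOn_of_not_dvd [Finite Y] (hk : ¬ p ∣ Nat.card φ.ker) {A : Subgroup Y} (hA : IsPGroup p A) :
    Set.InjOn φ A := fun a ha b hb e => by
  have h1 := PLocal.PConstrained.inf_eq_bot_of_isPGroup_of_coprime hA
    ((Nat.Prime.coprime_iff_not_dvd Fact.out).2 hk).symm
  have h2 : a⁻¹ * b ∈ A ⊓ φ.ker := ⟨A.mul_mem (A.inv_mem ha) hb, by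
    show φ _ = 1
    rw [map_mul, map_inv, e, inv_mul_cancel]⟩
  rwa [h1, Subgroup.mem_bot, inv_mul_eq_one] at h2

omit [FiniteDimensional k V] [CharP k p] in
/-- what normalises the image of a `p`-subgroup lifts to its normaliser -/
theorem map_normalizer_inf_comap [Finite Y] (hk : ¬ p ∣ Nat.card φ.ker) {A : Subgroup Y} (hA : IsPGroup p A)
    {N : Subgroup G} (hr : N ≤ φ.range) (hN : N ≤ Subgroup.normalizer (A.map φ : Set G)) :
    (Subgroup.normalizer (A : Set Y) ⊓ N.comap φ).map φ = N := by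
  refine le_antisymm (Subgroup.map_le_iff_le_comap.2 inf_le_right) fun g hg => ?_
  obtain ⟨y, rfl⟩ := hr hg
  obtain ⟨m, hm, h1⟩ := PLocal.PConstrained.exists_mul_mem_normalizer φ
    ((Nat.Prime.coprime_iff_not_dvd Fact.out).2 hk).symm hA y fun a ha => by
      rw [map_mul, map_mul, map_inv]
      exact (Subgroup.mem_normalizer_iff.1 (hN hg) _).1 ⟨a, ha, rfl⟩
  have h2 : φ (m * y) = φ y := by rw [map_mul, show φ m = 1 from hm, one_mul]
  exact ⟨m * y, ⟨h1, show φ _ ∈ N by rw [h2]; exact hg⟩, h2⟩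

omit [FiniteDimensional k V] in
theorem exists_pgroup_lift [Finite Y] {s : ℕ} [Fact s.Prime] {M : Subgroup Y} {P : Subgroup G} (hP : IsPGroup s P)
    (h : P ≤ M.map φ) : ∃ X ≤ M, IsPGroup s X ∧ X.map φ = P := by
  obtain ⟨Q⟩ : Nonempty (Sylow s ↥(M ⊓ P.comap φ)) := inferInstance
  let f : ↥(M ⊓ P.comap φ) →* P := (φ.comp (M ⊓ P.comap φ).subtype).codRestrict P fun x => x.2.2
  have hf : Function.Surjective f := fun g => by
    obtain ⟨x, hx, e⟩ := h g.2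
    exact ⟨⟨x, hx, show φ _ ∈ P by rw [e]; exact g.2⟩, Subtype.ext e⟩
  have : Finite P := Finite.of_surjective f hf
  have h1 : (Q : Subgroup ↥(M ⊓ P.comap φ)).map f = ⊤ :=
    ((Q.mapSurjective hf).is_maximal' (hP.to_subgroup ⊤) le_top).symm
  refine ⟨(Q : Subgroup ↥(M ⊓ P.comap φ)).map (Subgroup.subtype _), (Subgroup.map_subtype_le _).trans inf_le_left,
    Q.isPGroup'.map _, le_antisymm ?_ fun g hg => ?_⟩
  · rintro _ ⟨_, ⟨x, -, rfl⟩, rfl⟩
    exact x.2.2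
  · obtain ⟨y, hy, e⟩ := h1.ge (Subgroup.mem_top ⟨g, hg⟩)
    exact ⟨y, ⟨y, hy, rfl⟩, congrArg Subtype.val e⟩

/-- **G5 in a frame** `φ : Y → G` with kernel of order prime to `p`; all group-theoretic hypotheses are in `G`. -/
theorem layers_frame [Finite k] [Finite V] [Finite Y] (hk : ¬ p ∣ Nat.card φ.ker) {A : Subgroup Y}
    (hA : IsElementaryAbelian p A) {N X : Subgroup G} (hr : N ≤ φ.range)
    (hN : N ≤ Subgroup.normalizer (A.map φ : Set G)) (hXN : X ≤ N)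
    (hX : ∀ H, X ≤ H → H ≤ N → (∀ n ∈ N, ∀ h ∈ H, n * h * n⁻¹ ∈ H) → NoLin k (A.map φ) H ∧ OneForm k (A.map φ) H)
    (hc : ¬ Cub ρ A) {s n : ℕ} [Fact s.Prime] (hs : ¬ s ∣ Nat.card k) (hXs : IsPGroup s X)
    (hn : ∀ d, 0 < d → d < n → Nat.card k ^ d % s ≠ 1 % s) : 2 * n + 1 ≤ cod ρ A := by
  have h1 := map_normalizer_inf_comap φ hk (elemAb_isPGroup hA) hr hN
  obtain ⟨X', h2, h3, h4⟩ := exists_pgroup_lift φ hXs (hXN.trans h1.ge)
  have hi := injOn_of_not_dvd φ hk (elemAb_isPGroup hA)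
  refine layers_of_order hA inf_le_left h2 (fun H h5 h6 h7 => ?_) hc hs h3 hn
  obtain ⟨h8, h9⟩ := hX (H.map φ) (h4 ▸ Subgroup.map_mono h5) (h1 ▸ Subgroup.map_mono h6) fun n hn => by
    obtain ⟨n, hn', rfl⟩ := h1.ge hn
    rintro _ ⟨h, hh, rfl⟩
    exact ⟨_, h7 n hn' h hh, by rw [map_mul, map_mul, map_inv]⟩
  exact ⟨h8.of_map φ hi (h6.trans inf_le_left), h9.of_map φ hi (h6.trans inf_le_left)⟩

/-- **G5 in a frame**: `N` is irreducible on the image `B` of `A`, `|C_B(x)| = p` for some `x ∈ N`, and `N` is the normal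
closure of an element `y` of prime order `s`. -/
theorem layers_irr {V : Type*} [AddCommGroup V] [Module (ZMod p) V] [Finite V] {ρ : Representation (ZMod p) Y V}
    [Finite Y] (hk : ¬ p ∣ Nat.card φ.ker) {A : Subgroup Y} (hA : IsElementaryAbelian p A) {B N : Subgroup G}
    (hB : A.map φ = B) (hr : N ≤ φ.range) (hN : N ≤ Subgroup.normalizer (B : Set G)) (hi : IrrOn B N)
    (hp : p < Nat.card B) {x : G} (hx : x ∈ N) (hcx : Nat.card ↥(B ⊓ Subgroup.centralizer {x}) = p) {y : G}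
    (hy : y ∈ N) {s n : ℕ} (hs : s.Prime) (hsp : s ≠ p) (hys : y ^ s = 1)
    (hgen : ∀ H, y ∈ H → H ≤ N → (∀ n ∈ N, ∀ h ∈ H, n * h * n⁻¹ ∈ H) → H = N)
    (hn : ∀ d, 0 < d → d < n → p ^ d % s ≠ 1 % s) (hc : ¬ Cub ρ A) : 2 * n + 1 ≤ cod ρ A := by
  subst hB
  have := Fact.mk hs
  have : Finite (A.map φ) := Set.Finite.image φ (Set.toFinite (A : Set Y))
  refine layers_frame φ hk hA hr hN ((Subgroup.zpowers_le).2 hy) (fun H h1 h2 h3 => ?_) hc (s := s) ?_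
    (elemAb_isPGroup (elemAb_zpowers hys)) (by rwa [Nat.card_zmod])
  · rw [hgen H (h1 (Subgroup.mem_zpowers y)) h2 h3]
    exact ⟨noLin_of_irr hN hi (by rwa [Nat.card_zmod]), oneForm_of_card (elemAb_map hA φ) hN hi hx hcx⟩
  · rw [Nat.card_zmod]
    exact fun e => hsp ((Nat.prime_dvd_prime_iff_eq hs Fact.out).1 e)

end Transfer

end Cfsg.Agent.TwoF.Gen
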