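import Cfsg.Agent.TwoF.Gen.ACod
import Cfsg.Agent.Lib.PGroupFixedVector
import Cfsg.Agent.Lib.ComponentSolvable

/-!
# TwoF, G2: the Chermak-Delgado argument, the lattice trick, the standing hypotheses (helper10)
-/

set_option autoImplicit false
set_option linter.unusedSectionVars false

namespace Cfsg.Agent.TwoF.Gen

open Module

theorem card_mul_card_le {Y : Type*} [Group Y] [Finite Y] (A B : Subgroup Y) :
    Nat.card A * Nat.card B ≤ Nat.card ↥(A ⊔ B) * Nat.card ↥(A ⊓ B) := by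
  have h1 : Nat.card ↥(A ⊓ B) * B.relIndex A = Nat.card A := by
    rw [← Subgroup.inf_relIndex_left, Subgroup.relIndex, ← Subgroup.card_mul_index ((A ⊓ B).subgroupOf A),
      Nat.card_congr (Subgroup.subgroupOfEquivOfLe inf_le_left).toEquiv]
  have h2 : Nat.card B * B.relIndex (A ⊔ B) = Nat.card ↥(A ⊔ B) := by
    rw [Subgroup.relIndex, ← Subgroup.card_mul_index (B.subgroupOf (A ⊔ B)),
      Nat.card_congr (Subgroup.subgroupOfEquivOfLe le_sup_right).toEquiv]
  have h3 : B.relIndex A ≤ B.relIndex (A ⊔ B) :=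
    Subgroup.relIndex_le_of_le_right le_sup_left Subgroup.index_ne_zero_of_finite
  rw [← h1, ← h2]
  calc _ = Nat.card ↥(A ⊓ B) * Nat.card B * B.relIndex A := by ring
    _ ≤ Nat.card ↥(A ⊓ B) * Nat.card B * B.relIndex (A ⊔ B) := Nat.mul_le_mul_left _ h3
    _ = _ := by ring

theorem card_sup_of_normal {Y : Type*} [Group Y] (K A : Subgroup Y) [K.Normal] :
    Nat.card ↥(K ⊔ A) = Nat.card K * K.relIndex A := by
  rw [← Subgroup.relIndex_sup_left A K, Subgroup.relIndex, ← Subgroup.card_mul_index (K.subgroupOf (K ⊔ A)),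
    Nat.card_congr (Subgroup.subgroupOfEquivOfLe le_sup_left).toEquiv]

theorem card_map_conj {Y : Type*} [Group Y] (g : Y) (A : Subgroup Y) :
    Nat.card (A.map (MulAut.conj g).toMonoidHom) = Nat.card A :=
  Subgroup.card_map_of_injective (MulAut.conj g).injective

theorem map_conj_eq_iff {Y : Type*} [Group Y] {g : Y} {A : Subgroup Y} :
    A.map (MulAut.conj g).toMonoidHom = A ↔ g ∈ Subgroup.normalizer (A : Set Y) :=
  Subgroup.mem_normalizer_iff_map_conj_eq.symm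

variable {k : Type*} [Field k] {Y : Type*} [Group Y] {V : Type*} [AddCommGroup V] [Module k V]
  {ρ : Representation k Y V}

section CD

variable [FiniteDimensional k V] [Finite Y]

/-- **Chermak-Delgado**: a best subgroup of `H` that is normalised by everything that normalises `H` and `U` -/
theorem cdOn (U : Submodule k V) {H X : Subgroup Y} {q : ℕ} (hq : 0 < q) (a b : ℕ) (hX : X ≤ H) (h1 : X ≠ ⊥)
    (h : q ^ (b * codOn ρ U X) ≤ Nat.card X ^ a) :
    ∃ N ≤ H, N ≠ ⊥ ∧ (∀ g ∈ Subgroup.normalizer (H : Set Y), U.map (ρ g) = U → g ∈ Subgroup.normalizer (N : Set Y)) ∧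
      q ^ (b * codOn ρ U N) ≤ Nat.card N ^ a ∧
      ∀ X' ≤ H, Nat.card X' ^ a * q ^ (b * codOn ρ U N) ≤ Nat.card N ^ a * q ^ (b * codOn ρ U X') := by
  let μ : Subgroup Y → ℕ := fun X => Nat.card X ^ a * q ^ (b * (finrank k U - codOn ρ U X))
  have hμ : ∀ X X' : Subgroup Y, μ X' ≤ μ X ↔
      Nat.card X' ^ a * q ^ (b * codOn ρ U X) ≤ Nat.card X ^ a * q ^ (b * codOn ρ U X') := by
    intro X X'
    obtain ⟨c, hc⟩ := Nat.exists_eq_add_of_le (codOn_le_finrank (ρ := ρ) U X)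
    obtain ⟨c', hc'⟩ := Nat.exists_eq_add_of_le (codOn_le_finrank (ρ := ρ) U X')
    have e : finrank k U - codOn ρ U X = c := by omega
    have e' : finrank k U - codOn ρ U X' = c' := by omega
    have e2 : q ^ (b * c') * q ^ (b * codOn ρ U X') = q ^ (b * c) * q ^ (b * codOn ρ U X) := by
      rw [← pow_add, ← pow_add, ← mul_add, ← mul_add, add_comm c', add_comm c, ← hc, ← hc']
    simp only [μ, e, e']
    rw [← Nat.mul_le_mul_right_iff (pow_pos hq (b * codOn ρ U X')), mul_assoc, e2, ← mul_assoc,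
      mul_right_comm _ (q ^ (b * c)), mul_right_comm _ (q ^ (b * c)), Nat.mul_le_mul_right_iff (pow_pos hq _)]
  have hpos : ∀ X, 0 < μ X := fun X => Nat.mul_pos (pow_pos Nat.card_pos _) (pow_pos hq _)
  have hsub : ∀ A B : Subgroup Y, μ A * μ B ≤ μ (A ⊔ B) * μ (A ⊓ B) := by
    intro A B
    have h2 := codOn_sup_add_inf (ρ := ρ) U A B
    have h3 := codOn_le_finrank (ρ := ρ) U A
    have h4 := codOn_le_finrank (ρ := ρ) U B
    have h5 := codOn_le_finrank (ρ := ρ) U (A ⊔ B)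
    have h6 := codOn_le_finrank (ρ := ρ) U (A ⊓ B)
    simp only [μ]
    rw [mul_mul_mul_comm, mul_mul_mul_comm (_ ^ a) _ (_ ^ a), ← mul_pow, ← mul_pow, ← pow_add, ← pow_add, ← mul_add,
      ← mul_add]
    exact Nat.mul_le_mul (Nat.pow_le_pow_left (card_mul_card_le A B) a)
      (Nat.pow_le_pow_right hq (Nat.mul_le_mul_left b (by omega)))
  have hbot : ∀ X, μ ⊥ ≤ μ X ↔ q ^ (b * codOn ρ U X) ≤ Nat.card X ^ a := fun X => by
    rw [hμ, Subgroup.card_bot, one_pow, one_mul, (codOn_eq_zero_iff (B := ⊥)).2 (by rw [fx_bot]; exact le_top),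
      mul_zero, pow_zero, mul_one]
  let P : Subgroup Y → Prop := fun N => N ≤ H ∧ ∀ X' ≤ H, μ X' ≤ μ N
  have hP : ∃ X₁, P X₁ ∧ X₁ ≠ ⊥ := by
    have : Nonempty {X // X ≤ H} := ⟨⟨X, hX⟩⟩
    obtain ⟨X₀, h0⟩ := Finite.exists_max fun X : {X // X ≤ H} => μ X.1
    by_cases e : X₀.1 = ⊥
    · exact ⟨X, ⟨hX, fun X' h' => ((h0 ⟨X', h'⟩).trans (e ▸ le_rfl)).trans ((hbot X).2 h)⟩, h1⟩
    · exact ⟨X₀.1, ⟨X₀.2, fun X' h' => h0 ⟨X', h'⟩⟩, e⟩
  have hPsup : ∀ A B, P A → P B → P (A ⊔ B) := by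
    intro A B hA hB
    refine ⟨sup_le hA.1 hB.1, fun X' h' => (hA.2 X' h').trans ?_⟩
    exact Nat.le_of_mul_le_mul_right ((hsub A B).trans (Nat.mul_le_mul_left _ (hB.2 _ (inf_le_left.trans hA.1))))
      (hpos B)
  obtain ⟨X₁, hX₁, hne⟩ := hP
  obtain ⟨N, h2, hN⟩ := Finite.exists_le_maximal (p := P) hX₁
  refine ⟨N, hN.prop.1, fun e => hne (le_bot_iff.1 (e ▸ h2)), fun g hg hU => ?_, (hbot N).1 (hN.prop.2 ⊥ bot_le),
    fun X' h' => (hμ N X').1 (hN.prop.2 X' h')⟩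
  have h3 : P (N.map (MulAut.conj g).toMonoidHom) := by
    refine ⟨map_conj_eq_iff.2 hg ▸ Subgroup.map_mono hN.prop.1, fun X' h' => (hN.prop.2 X' h').trans_eq ?_⟩
    simp only [μ]
    rw [card_map_conj]
    conv_rhs => rw [← hU, codOn_conj, hU]
  have h4 : N.map (MulAut.conj g).toMonoidHom ≤ N := le_sup_right.trans (hN.le_of_ge (hPsup _ _ hN.prop h3) le_sup_left)
  exact map_conj_eq_iff.1 (Subgroup.eq_of_le_of_card_ge h4 (card_map_conj g N).ge)

theorem cd {H X : Subgroup Y} {q : ℕ} (hq : 0 < q) (a b : ℕ) (hX : X ≤ H) (h1 : X ≠ ⊥)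
    (h : q ^ (b * cod ρ X) ≤ Nat.card X ^ a) :
    ∃ N ≤ H, N ≠ ⊥ ∧ Subgroup.normalizer (H : Set Y) ≤ Subgroup.normalizer (N : Set Y) ∧
      q ^ (b * cod ρ N) ≤ Nat.card N ^ a ∧
      ∀ X' ≤ H, Nat.card X' ^ a * q ^ (b * cod ρ N) ≤ Nat.card N ^ a * q ^ (b * cod ρ X') := by
  simp only [← codOn_top] at h ⊢
  obtain ⟨N, h2, h3, h4, h5⟩ := cdOn ⊤ hq a b hX h1 h
  exact ⟨N, h2, h3, fun g hg => h4 g hg ((inv_top ⊤).map_eq (Subgroup.mem_top g)), h5⟩

variable {p : ℕ}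

/-- an offender inside `H` gives a subgroup of `H`, normalised by `N(H)`, with the offender inequality -/
theorem cd_off (hp : 0 < p) {H A : Subgroup Y} (hA : Off p ρ A) (h : A ≤ H) :
    ∃ N ≤ H, N ≠ ⊥ ∧ Subgroup.normalizer (H : Set Y) ≤ Subgroup.normalizer (N : Set Y) ∧
      p ^ cod ρ N ≤ Nat.card N ^ 2 ∧ ∀ X ≤ H, Nat.card X ^ 2 * p ^ cod ρ N ≤ Nat.card N ^ 2 * p ^ cod ρ X := by
  simpa only [one_mul] using cd (ρ := ρ) hp 2 1 h hA.2.1 (by rw [one_mul]; exact hA.2.2)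

omit [Finite Y] in
theorem elemAb_of_le {E B : Subgroup Y} (hE : IsElementaryAbelian p E) (h : B ≤ E) : IsElementaryAbelian p B :=
  ⟨⟨⟨fun a b => Subtype.ext (congrArg Subtype.val (hE.1.1.1 ⟨a, h a.2⟩ ⟨b, h b.2⟩) :)⟩⟩, fun a ha => hE.2 a (h ha)⟩

/-- **lattice trick** -/
theorem lattice (hp : 0 < p) {E A : Subgroup Y} (hE : IsElementaryAbelian p E) (hA : Off p ρ A) (h : A ≤ E) :
    ∃ B ≤ E, Off p ρ B ∧ Subgroup.normalizer (E : Set Y) ≤ Subgroup.normalizer (B : Set Y) ∧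
      ∀ X ≤ E, Nat.card X ^ 2 * p ^ cod ρ B ≤ Nat.card B ^ 2 * p ^ cod ρ X := by
  obtain ⟨N, h1, h2, h3, h4, h5⟩ := cd_off hp hA h
  exact ⟨N, h1, ⟨elemAb_of_le hE h1, h2, h4⟩, h3, h5⟩

theorem latticeOn (hp : 0 < p) {U : Submodule k V} {E A : Subgroup Y} (hE : IsElementaryAbelian p E)
    (hA : OffOn p ρ U A) (h : A ≤ E) : ∃ B ≤ E, OffOn p ρ U B ∧
      ∀ g ∈ Subgroup.normalizer (E : Set Y), U.map (ρ g) = U → g ∈ Subgroup.normalizer (B : Set Y) := by
  obtain ⟨N, h1, h2, h3, h4, -⟩ := cdOn (ρ := ρ) U hp 2 1 h hA.2.1 (by rw [one_mul]; exact hA.2.2)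
  exact ⟨N, h1, ⟨elemAb_of_le hE h1, h2, by rwa [one_mul] at h4⟩, h3⟩

omit [FiniteDimensional k V] in
/-- minimal offenders -/
theorem exists_min_off {A : Subgroup Y} (hA : Off p ρ A) :
    ∃ B ≤ A, Off p ρ B ∧ ∀ X < B, X ≠ ⊥ → Nat.card X ^ 2 < p ^ cod ρ X := by
  obtain ⟨B, h1, h2⟩ := exists_minimal_le_of_wellFoundedLT (Off p ρ) A hA
  exact ⟨B, h1, h2.prop, fun X hX h3 => lt_of_not_ge fun h4 =>
    h2.not_prop_of_lt hX ⟨elemAb_of_le h2.prop.1 hX.le, h3, h4⟩⟩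

omit [FiniteDimensional k V] in
/-- maximal elementary abelian subgroups -/
theorem exists_max_elemAb {A : Subgroup Y} (hA : IsElementaryAbelian p A) :
    ∃ E, A ≤ E ∧ IsElementaryAbelian p E ∧ ∀ E', IsElementaryAbelian p E' → E ≤ E' → E' = E := by
  obtain ⟨E, h1, h2⟩ := Finite.exists_le_maximal (p := IsElementaryAbelian p) hA
  exact ⟨E, h1, h2.prop, fun E' h3 h4 => le_antisymm (h2.le_of_ge h3 h4) h4⟩

end CD

section Conj

variable {p : ℕ}

theorem elemAb_map {Y' : Type*} [Group Y'] {E : Subgroup Y} (hE : IsElementaryAbelian p E) (f : Y →* Y') :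
    IsElementaryAbelian p (E.map f) := by
  have := hE.1
  refine ⟨inferInstance, ?_⟩
  rintro _ ⟨a, ha, rfl⟩
  rw [← map_pow, hE.2 a ha, map_one]

theorem elemAb_comm {E : Subgroup Y} (hE : IsElementaryAbelian p E) {a b : Y} (ha : a ∈ E) (hb : b ∈ E) :
    a * b = b * a := congrArg Subtype.val (hE.1.1.1 ⟨a, ha⟩ ⟨b, hb⟩)

theorem elemAb_of {E : Subgroup Y} (hc : ∀ a ∈ E, ∀ b ∈ E, a * b = b * a) (hp : ∀ a ∈ E, a ^ p = 1) :
    IsElementaryAbelian p E := ⟨⟨⟨fun a b => Subtype.ext (hc a a.2 b b.2)⟩⟩, hp⟩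

theorem elemAb_zpowers {a : Y} (ha : a ^ p = 1) : IsElementaryAbelian p (Subgroup.zpowers a) := by
  refine ⟨inferInstance, ?_⟩
  rintro _ ⟨n, rfl⟩
  show (a ^ n) ^ p = 1
  rw [← zpow_natCast, ← zpow_mul, mul_comm, zpow_mul, zpow_natCast, ha, one_zpow]

theorem elemAb_isPGroup {E : Subgroup Y} (hE : IsElementaryAbelian p E) : IsPGroup p E :=
  fun a => ⟨1, Subtype.ext (by rw [pow_one]; exact hE.2 a a.2)⟩

theorem _root_.Cfsg.Agent.TwoF.Off.conj {A : Subgroup Y} (h : Off p ρ A) (g : Y) :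
    Off p ρ (A.map (MulAut.conj g).toMonoidHom) :=
  ⟨elemAb_map h.1 _, fun e => h.2.1 ((Subgroup.map_eq_bot_iff_of_injective _ (MulAut.conj g).injective).1 e), by
    rw [cod_conj, card_map_conj]; exact h.2.2⟩

theorem _root_.Cfsg.Agent.TwoF.Off.offOn [FiniteDimensional k V] (hp : 0 < p) {A : Subgroup Y} (h : Off p ρ A)
    (U : Submodule k V) : OffOn p ρ U A :=
  ⟨h.1, h.2.1, (Nat.pow_le_pow_right hp (codOn_le_cod U A)).trans h.2.2⟩

variable [Fact p.Prime]

theorem _root_.Cfsg.Agent.TwoF.Off.exists_card [Finite Y] {A : Subgroup Y} (h : Off p ρ A) :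
    ∃ r, 0 < r ∧ Nat.card A = p ^ r ∧ cod ρ A ≤ 2 * r := by
  obtain ⟨r, hr⟩ := (elemAb_isPGroup h.1).exists_card_eq
  refine ⟨r, Nat.pos_of_ne_zero fun e => h.2.1 (Subgroup.card_eq_one.1 (by rw [hr, e, pow_zero])), hr, ?_⟩
  have := h.2.2
  rwa [hr, ← pow_mul, Nat.pow_le_pow_iff_right (Fact.out : p.Prime).one_lt, mul_comm] at this

theorem off_of_card {A : Subgroup Y} (hA : IsElementaryAbelian p A) {r : ℕ} (hr : 0 < r) (h : Nat.card A = p ^ r)
    (hc : cod ρ A ≤ 2 * r) : Off p ρ A := by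
  have hp := (Fact.out : p.Prime).one_lt
  refine ⟨hA, fun e => ?_, by rw [h, ← pow_mul, mul_comm]; exact Nat.pow_le_pow_right hp.le hc⟩
  rw [e, Subgroup.card_bot] at h
  exact (Nat.one_lt_pow hr.ne' hp).ne h

theorem off_zpowers {a : Y} (ha : orderOf a = p) (hc : cod ρ (Subgroup.zpowers a) ≤ 2) :
    Off p ρ (Subgroup.zpowers a) :=
  off_of_card (elemAb_zpowers (ha ▸ pow_orderOf_eq_one a)) one_pos (by rw [Nat.card_zpowers, ha, pow_one]) hc

end Conj

/-! ### `p`-groups in characteristic `p` -/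

section PGroup

variable {p : ℕ} [Fact p.Prime] [CharP k p]

theorem exists_mem_fxQ {B : Subgroup Y} [Finite B] (hB : IsPGroup p B) {U W : Submodule k V} (hU : Inv ρ B U)
    (hW : Inv ρ B W) (h : ¬ W ≤ U) : ∃ v ∈ W, v ∉ U ∧ v ∈ fxQ ρ U B := by
  obtain ⟨v, ⟨w, hw, rfl⟩, h1, h2⟩ := Lib.PGroupFixedVector.exists_mem_ne_zero_fixed_rep hB (quoBy ρ hU) (W.map U.mkQ)
    (by rintro g _ ⟨w, hw, rfl⟩; exact ⟨_, hW g g.2 w hw, rfl⟩)
    fun e => h (by rwa [← le_bot_iff, Submodule.map_le_iff_le_comap, Submodule.comap_bot, Submodule.ker_mkQ] at e)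
  refine ⟨w, hw, fun e => h1 ((Submodule.Quotient.mk_eq_zero U).2 e), fun b hb => ?_⟩
  exact (Submodule.Quotient.eq U).1 (h2 ⟨b, hb⟩)

theorem inf_fx_ne_bot {B : Subgroup Y} [Finite B] (hB : IsPGroup p B) {W : Submodule k V} (hW : Inv ρ B W)
    (h : W ≠ ⊥) : W ⊓ fx ρ B ≠ ⊥ := by
  obtain ⟨v, h1, h2, h3⟩ := exists_mem_fxQ hB (inv_bot B) hW fun e => h (le_bot_iff.1 e)
  rw [fxQ_bot] at h3
  exact fun e => h2 (e ▸ ⟨h1, h3⟩)

theorem lt_fxQ {B : Subgroup Y} [Finite B] (hB : IsPGroup p B) {U : Submodule k V} (hU : Inv ρ B U) (h : U ≠ ⊤) :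
    U < fxQ ρ U B := by
  obtain ⟨v, -, h2, h3⟩ := exists_mem_fxQ hB hU (inv_top B) fun e => h (top_le_iff.1 e)
  exact lt_of_le_of_ne (le_fxQ hU) fun e => h2 (e ▸ h3)

theorem sub_one_pow {a : Y} {n : ℕ} (ha : a ^ p ^ n = 1) : (ρ a - 1) ^ p ^ n = 0 := by
  rcases subsingleton_or_nontrivial V with h | h
  · exact Subsingleton.elim _ _
  have : CharP (Module.End k V) p := charP_of_injective_algebraMap (algebraMap k _).injective p
  rw [sub_pow_char_pow_of_commute _ _ (Commute.one_right _), ← map_pow, ha, map_one, one_pow, sub_self]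

/-- an element of order prime to `p` that acts unipotently acts trivially -/
theorem eq_of_sub_one_sq {a : Y} {n : ℕ} (ha : a ^ n = 1) (hn : ¬ p ∣ n) {v : V}
    (h : ρ a (ρ a v - v) = ρ a v - v) : ρ a v = v := by
  have h1 : ∀ m : ℕ, ρ (a ^ m) v = v + (m : k) • (ρ a v - v) := by
    intro m
    induction m with
    | zero => simp
    | succ m ih => rw [pow_succ', rho_mul, ih, map_add, map_smul, h, Nat.cast_succ, add_smul, one_smul]; abel
  have h2 := h1 n
  rw [ha, rho_one, left_eq_add, smul_eq_zero, CharP.cast_eq_zero_iff k p] at h2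
  exact sub_eq_zero.1 (h2.resolve_left hn)

end PGroup

/-! ### central subgroups of a perfect group are far from being offenders -/

section Central

theorem cm_eq_bot_of_perfect {K : Subgroup Y} (hK : Group.IsPerfect K) {U : Submodule k V} (hU : Inv ρ K U)
    (hc : ∀ a ∈ K, ∀ b ∈ K, ∀ v ∈ U, ρ a (ρ b v) = ρ b (ρ a v)) : U ≤ fx ρ K := by
  have h1 : commutator K ≤ (resOn ρ hU).ker := by
    rw [commutator_def, Subgroup.commutator_le]
    intro a _ b _
    ext v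
    show ρ ((a : Y) * b * (a : Y)⁻¹ * (b : Y)⁻¹) v = v
    rw [rho_mul, rho_mul, rho_mul, hc a a.2 b b.2 _ (hU _ (inv_mem a.2) _ (hU _ (inv_mem b.2) _ v.2)), rho_apply_inv,
      rho_apply_inv]
  intro v hv b hb
  have h2 : resOn ρ hU ⟨b, hb⟩ = 1 := h1 (hK.commutator_eq_top ▸ Subgroup.mem_top _)
  exact congrArg Subtype.val (DFunLike.congr_fun h2 ⟨v, hv⟩)

variable [Finite V]

theorem central_simple [Finite Y] (hK : Group.IsPerfect Y) (hirr : Irr ρ ⊤) {N : Subgroup Y}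
    (hN : N ≤ Subgroup.center Y) (h : fx ρ N ≠ ⊤) : ρ.ker.relIndex N ^ 2 < Nat.card V := by
  classical
  let E : Submodule k (Module.End k V) := Submodule.span k (ρ '' N)
  have hE1 : ∀ f ∈ E, ∀ g : Y, f * ρ g = ρ g * f := by
    intro f hf g
    induction hf using Submodule.span_induction with
    | mem x hx =>
      obtain ⟨n, hn, rfl⟩ := hx
      rw [← map_mul, ← map_mul, Subgroup.mem_center_iff.1 (hN hn)]
    | zero => simp
    | add x y _ _ hx hy => rw [add_mul, mul_add, hx, hy]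
    | smul c x _ hx => rw [smul_mul_assoc, mul_smul_comm, hx]
  have hE2 : ∀ f ∈ E, ∀ f' ∈ E, f * f' = f' * f ∧ f * f' ∈ E := by
    intro f hf f' hf'
    induction hf' using Submodule.span_induction with
    | mem x hx =>
      obtain ⟨n, hn, rfl⟩ := hx
      refine ⟨hE1 f hf n, ?_⟩
      induction hf using Submodule.span_induction with
      | mem x hx =>
        obtain ⟨m, hm, rfl⟩ := hx
        exact Submodule.subset_span ⟨_, mul_mem hm hn, map_mul _ _ _⟩
      | zero => simp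
      | add x y _ _ hx hy => rw [add_mul]; exact add_mem hx hy
      | smul c x _ hx => rw [smul_mul_assoc]; exact E.smul_mem c hx
    | zero => simp
    | add x y _ _ hx hy => rw [add_mul, mul_add, hx.1, hy.1]; exact ⟨rfl, by rw [← hx.1, ← hy.1]; exact add_mem hx.2 hy.2⟩
    | smul c x _ hx => rw [smul_mul_assoc, mul_smul_comm, hx.1]; exact ⟨rfl, by rw [← hx.1]; exact E.smul_mem c hx.2⟩
  have hE3 : ∀ f ∈ E, ∀ v, f v = 0 → f = 0 ∨ v = 0 := by
    intro f hf v hv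
    rcases hirr (LinearMap.ker f) (fun g _ w hw => by
      rw [LinearMap.mem_ker, ← Module.End.mul_apply, hE1 f hf, Module.End.mul_apply, LinearMap.mem_ker.1 hw,
        map_zero]) with e | e
    · exact Or.inr ((Submodule.mem_bot k).1 (e ▸ hv))
    · exact Or.inl (LinearMap.ker_eq_top.1 e)
  have hone : (1 : Module.End k V) ∈ E := Submodule.subset_span ⟨1, one_mem _, map_one _⟩
  have hfinE : Finite (Module.End k V) := Finite.of_injective _ DFunLike.coe_injective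
  obtain ⟨v, -, hv⟩ := SetLike.not_le_iff_exists.1 fun e => h (top_le_iff.1 e)
  have hv0 : v ≠ 0 := fun e => hv (e ▸ zero_mem _)
  have hw : ∃ w, ∀ f ∈ E, f v ≠ w := by
    by_contra hc
    push Not at hc
    have h1 := cm_eq_bot_of_perfect (ρ := ρ) (K := ⊤) (Group.IsPerfect.top_iff.2 hK) (inv_top ⊤)
      fun a _ b _ u _ => by
        obtain ⟨f, hf, rfl⟩ := hc u
        obtain ⟨fa, hfa, ea⟩ := hc (ρ a v)
        obtain ⟨fb, hfb, eb⟩ := hc (ρ b v)
        have e1 : ∀ g, ∀ f ∈ E, ∀ u, ρ g (f u) = f (ρ g u) := fun g f hf u =>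
          (DFunLike.congr_fun (hE1 f hf g) u).symm
        rw [e1 b f hf, e1 a f hf, e1 a f hf, e1 b f hf, ← ea, ← eb, e1 a fb hfb, e1 b fa hfa, ← ea, ← eb]
        exact congrArg f (DFunLike.congr_fun (hE2 fb hfb fa hfa).1 v)
    exact hv (fx_anti le_top (h1 trivial))
  obtain ⟨w, hw⟩ := hw
  have hinj : Function.Injective fun x : E × E => x.1.1 v + x.2.1 w := by
    have key : ∀ f ∈ E, ∀ f' ∈ E, f v + f' w = 0 → f = 0 ∧ f' = 0 := by
      intro f hf f' hf' e
      by_cases h0 : f' = 0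
      · rw [h0, LinearMap.zero_apply, add_zero] at e
        exact ⟨(hE3 f hf v e).resolve_right hv0, h0⟩
      · have h2 : Function.Injective fun x : E => (⟨x.1 * f', (hE2 _ x.2 _ hf').2⟩ : E) := by
          intro x y hxy
          have h3 : f' ((x.1 - y.1) v) = 0 := by
            rw [← Module.End.mul_apply, ← (hE2 _ (sub_mem x.2 y.2) _ hf').1, sub_mul,
              show x.1 * f' = y.1 * f' from congrArg Subtype.val hxy, sub_self, LinearMap.zero_apply]
          exact Subtype.ext (sub_eq_zero.1 ((hE3 _ (sub_mem x.2 y.2) v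
            ((hE3 _ hf' _ h3).resolve_left h0)).resolve_right hv0))
        obtain ⟨x, hx⟩ := Finite.injective_iff_surjective.1 h2 ⟨1, hone⟩
        have h3 : x.1 * f' = 1 := congrArg Subtype.val hx
        refine absurd ?_ (hw _ (neg_mem (hE2 _ x.2 _ hf).2))
        have h4 := congrArg x.1 e
        rw [map_add, map_zero, ← Module.End.mul_apply, ← Module.End.mul_apply, h3, Module.End.one_apply] at h4
        rw [LinearMap.neg_apply, neg_eq_iff_add_eq_zero, h4]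
    intro x y hxy
    have := key _ (sub_mem x.1.2 y.1.2) _ (sub_mem x.2.2 y.2.2) (by
      have hxy' : x.1.1 v + x.2.1 w = y.1.1 v + y.2.1 w := hxy
      rw [LinearMap.sub_apply, LinearMap.sub_apply, sub_add_sub_comm, hxy', sub_self])
    exact Prod.ext (Subtype.ext (sub_eq_zero.1 this.1)) (Subtype.ext (sub_eq_zero.1 this.2))
  have h1 := Nat.card_le_card_of_injective _ hinj
  have h2 : ρ.ker.relIndex N < Nat.card E := by
    have h3 : Function.Injective fun x : Option (N ⧸ ρ.ker.subgroupOf N) =>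
        (x.elim 0 fun q => ⟨ρ q.out, Submodule.subset_span ⟨_, q.out.2, rfl⟩⟩ : E) := by
      have h4 : ∀ n : Y, ρ n ≠ 0 := fun n e =>
        hv0 (rho_injective ρ n ((DFunLike.congr_fun e v).trans (map_zero _).symm))
      rintro (_ | x) (_ | y) e
      · rfl
      · exact absurd (congrArg Subtype.val e).symm (h4 _)
      · exact absurd (congrArg Subtype.val e) (h4 _)
      · have e' : ρ x.out = ρ y.out := congrArg Subtype.val e
        rw [← x.out_eq, ← y.out_eq, Option.some_inj, QuotientGroup.eq, Subgroup.mem_subgroupOf, MonoidHom.mem_ker,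
          Subgroup.coe_mul, map_mul, ← e', ← map_mul, Subgroup.coe_inv, inv_mul_cancel, map_one]
    have h5 := Nat.card_le_card_of_injective _ h3
    rwa [Finite.card_option] at h5
  rw [Nat.card_prod] at h1
  exact lt_of_lt_of_le (by rw [sq]; exact Nat.mul_lt_mul'' h2 h2) h1

end Central

theorem central_lt_aux.{u} {p : ℕ} [Fact p.Prime] [CharP k p] [Finite k] [Finite Y] (hK : Group.IsPerfect Y)
    {N : Subgroup Y} (hN : N ≤ Subgroup.center Y) (hc : ¬ p ∣ Nat.card N) (n : ℕ) :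
    ∀ (V : Type u) [AddCommGroup V] [Module k V] [Finite V] (ρ : Representation k Y V), finrank k V = n →
      fx ρ N ≠ ⊤ → ρ.ker.relIndex N ^ 2 < Nat.card k ^ cod ρ N := by
  induction n using Nat.strong_induction_on with
  | _ n ih =>
  intro V _ _ _ ρ hn h
  by_cases hirr : Irr ρ ⊤
  · have : N.Normal := ⟨fun a ha g => by rwa [Subgroup.mem_center_iff.1 (hN ha), mul_inv_cancel_right]⟩
    rw [cod_of_fx_eq_bot ((hirr _ (inv_fx_normal N ⊤)).resolve_right h), ← Module.natCard_eq_pow_finrank]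
    exact central_simple hK hirr hN h
  obtain ⟨U, hU, h1⟩ := not_forall₂.1 hirr
  rw [not_or] at h1
  let ρ₁ := ρ.subrepresentation U fun g _ hv => hU g trivial _ hv
  let ρ₂ := ρ.quotient U fun g _ hv => hU g trivial _ hv
  have e1 : cod ρ₁ N = codOn ρ U N := by
    rw [cod_eq_codOn_range (ρ := ρ) (B := N) U.subtype U.injective_subtype (fun b hb => ⟨b, hb, fun _ => rfl⟩)
      (fun b hb => ⟨b, hb, fun _ => rfl⟩), Submodule.range_subtype]
  have e2 : cod ρ₂ N = lay ρ U ⊤ N := by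
    rw [cod_eq_lay_ker (ρ := ρ) (B := N) U.mkQ U.mkQ_surjective (fun b hb => ⟨b, hb, fun _ => rfl⟩)
      (fun b hb => ⟨b, hb, fun _ => rfl⟩), Submodule.ker_mkQ]
  have h2 := codOn_add_lay_le (hU.mono (le_top : N ≤ ⊤))
  have h3 := Submodule.finrank_quotient_add_finrank U
  have h4 : finrank k U < finrank k V := Submodule.finrank_lt h1.2
  have h5 : finrank k U ≠ 0 := fun e => h1.1 (Submodule.finrank_eq_zero.1 e)
  have : Finite (V ⧸ U) := Quotient.finite _
  have i1 := ih _ (hn ▸ h4) U ρ₁ rfl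
  have i2 := ih _ (by omega) (V ⧸ U) ρ₂ rfl
  have h6 : (ρ₁.ker ⊓ ρ₂.ker) ⊓ N ≤ ρ.ker := by
    rintro a ⟨⟨a1, a2⟩, ha⟩
    ext v
    refine eq_of_sub_one_sq (n := Nat.card N) (congrArg Subtype.val (pow_card_eq_one' (x := (⟨a, ha⟩ : N)))) hc ?_
    exact congrArg Subtype.val (DFunLike.congr_fun (MonoidHom.mem_ker.1 a1)
      ⟨_, (Submodule.Quotient.eq U).1 (DFunLike.congr_fun (MonoidHom.mem_ker.1 a2) (U.mkQ v))⟩)
  have h7 : ρ.ker.relIndex N ≤ ρ₁.ker.relIndex N * ρ₂.ker.relIndex N := by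
    refine le_trans (Subgroup.relIndex_le_of_le_left h6 Subgroup.index_ne_zero_of_finite) ?_
    rw [Subgroup.inf_relIndex_right]
    exact Subgroup.relIndex_inf_le
  have hq : 0 < Nat.card k := Nat.card_pos
  have w1 : ρ₁.ker.relIndex N ^ 2 ≤ Nat.card k ^ cod ρ₁ N := by
    by_cases e : fx ρ₁ N = ⊤
    · rw [Subgroup.relIndex_eq_one.2 (fx_eq_top_iff.1 e), one_pow]; exact pow_pos hq _
    · exact (i1 e).le
  have w2 : ρ₂.ker.relIndex N ^ 2 ≤ Nat.card k ^ cod ρ₂ N := by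
    by_cases e : fx ρ₂ N = ⊤
    · rw [Subgroup.relIndex_eq_one.2 (fx_eq_top_iff.1 e), one_pow]; exact pow_pos hq _
    · exact (i2 e).le
  refine lt_of_le_of_lt (Nat.pow_le_pow_left h7 2) (lt_of_lt_of_le ?_ (Nat.pow_le_pow_right hq h2))
  rw [mul_pow, pow_add, ← e1, ← e2]
  by_cases e : fx ρ₁ N = ⊤
  · refine Nat.mul_lt_mul_of_le_of_lt w1 (i2 fun e' => h (fx_eq_top_iff.2 fun a ha => ?_)) (pow_pos hq _)
    exact h6 ⟨⟨fx_eq_top_iff.1 e ha, fx_eq_top_iff.1 e' ha⟩, ha⟩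
  · exact Nat.mul_lt_mul_of_lt_of_le (i1 e) w2 (pow_pos hq _)

/-- a central `p'`-subgroup of a perfect group does not satisfy the offender inequality -/
theorem central_lt {p : ℕ} [Fact p.Prime] [CharP k p] [Finite k] [Finite Y] [Finite V] (hf : Function.Injective ρ)
    {K N : Subgroup Y} (hK : Group.IsPerfect K) (hN : N ≤ K) (hZ : N ≤ Subgroup.centralizer (K : Set Y))
    (hc : ¬ p ∣ Nat.card N) (h1 : N ≠ ⊥) : Nat.card N ^ 2 < Nat.card k ^ cod ρ N := by
  have e := Nat.card_congr (Subgroup.subgroupOfEquivOfLe hN).toEquiv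
  have h2 := central_lt_aux hK (N := N.subgroupOf K)
    (fun a ha => Subgroup.mem_center_iff.2 fun g => Subtype.ext (hZ ha g g.2)) (e ▸ hc) _ V (ρ.comp K.subtype) rfl
    (by
      rw [fx_comp, Subgroup.map_subgroupOf_eq_of_le hN]
      exact fun e => h1 (eq_bot_of_fx_eq_top hf e))
  have h3 : Function.Injective (ρ.comp K.subtype) := hf.comp K.subtype_injective
  rwa [cod_comp, Subgroup.map_subgroupOf_eq_of_le hN, (MonoidHom.ker_eq_bot_iff _).2 h3,
    Subgroup.relIndex_bot_left, e] at h2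

end Cfsg.Agent.TwoF.Gen
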