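import Cfsg.Agent.TwoF.Gen.BLay
import Cfsg.Agent.TwoF.Gen.BCov

/-!
# TwoF, G4: the trilinear form of a non-cubic elementary abelian group (helper14)
-/

set_option autoImplicit false
set_option linter.unusedSectionVars false

namespace Cfsg.Agent.TwoF.Gen

open Module

variable {k : Type*} [Field k] {Y : Type*} [Group Y] {V : Type*} [AddCommGroup V] [Module k V]
  {ρ : Representation k Y V}

theorem relIndex_le_card {A D : Subgroup Y} {M : Type*} [Finite M] (g : A → M)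
    (h : ∀ a b : A, g a = g b → (a : Y)⁻¹ * b ∈ D) : D.relIndex A ≤ Nat.card M :=
  Nat.card_le_card_of_injective (fun q : A ⧸ D.subgroupOf A => g q.out) fun q r e => by
    rw [← q.out_eq', ← r.out_eq']
    exact QuotientGroup.eq.2 (h _ _ e)

theorem card_le_relIndex {A D : Subgroup Y} [Finite A] {ι : Type*} (s : ι → A)
    (h : ∀ i j, (s i : Y)⁻¹ * s j ∈ D → i = j) : Nat.card ι ≤ D.relIndex A :=
  Nat.card_le_card_of_injective (fun i => (s i : A ⧸ D.subgroupOf A)) fun i j e =>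
    h i j (QuotientGroup.eq (s := D.subgroupOf A).1 e)

/-- the trilinear form -/
def tri (ρ : Representation k Y V) (φ : V →ₗ[k] k) (v : V) (a b c : Y) : k :=
  φ ((ρ a - 1) ((ρ b - 1) ((ρ c - 1) v)))

theorem tri_swap₁ {a b : Y} (h : a * b = b * a) (φ : V →ₗ[k] k) (v : V) (c : Y) :
    tri ρ φ v a b c = tri ρ φ v b a c := by rw [tri, tri, sub_one_comm h]

theorem tri_swap₂ {b c : Y} (h : b * c = c * b) (φ : V →ₗ[k] k) (v : V) (a : Y) :
    tri ρ φ v a b c = tri ρ φ v a c b := by rw [tri, tri, sub_one_comm h v]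

theorem tri_add_left (φ ψ : V →ₗ[k] k) (v : V) (a b c : Y) :
    tri ρ (φ + ψ) v a b c = tri ρ φ v a b c + tri ρ ψ v a b c := rfl

theorem tri_addOn {A : Subgroup Y} {v : V} (hv : v ∈ asc ρ A 4) (φ : V →ₗ[k] k) {b c : Y} (hb : b ∈ A) (hc : c ∈ A) :
    AddOn A fun a => tri ρ φ v a b c :=
  addOn_asc (i := 0) (asc_step (asc_step hv hc) hb) φ fun u hu => by rw [(Submodule.mem_bot k).1 hu, map_zero]

/-- the radical of the trilinear form -/
def trad {A : Subgroup Y} {v : V} (hv : v ∈ asc ρ A 4) (φ : V →ₗ[k] k) : Subgroup Y :=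
  kerOn A (fun (i : A × A) a => tri ρ φ v a i.1 i.2) fun i => tri_addOn hv φ i.1.2 i.2.2

theorem mem_trad {A : Subgroup Y} {v : V} {hv : v ∈ asc ρ A 4} {φ : V →ₗ[k] k} {a : Y} :
    a ∈ trad hv φ ↔ a ∈ A ∧ ∀ b ∈ A, ∀ c ∈ A, tri ρ φ v a b c = 0 :=
  ⟨fun h => ⟨h.1, fun b hb c hc => h.2 (⟨b, hb⟩, ⟨c, hc⟩)⟩, fun h => ⟨h.1, fun i => h.2 _ i.1.2 _ i.2.2⟩⟩

theorem exists_tri_ne {A : Subgroup Y} {v : V} (h : v ∉ asc ρ A 3) :
    ∃ φ : V →ₗ[k] k, ∃ a ∈ A, ∃ b ∈ A, ∃ c ∈ A, tri ρ φ v a b c ≠ 0 := by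
  rw [mem_asc_three] at h
  push Not at h
  obtain ⟨c, hc, b, hb, a, ha, h⟩ := h
  obtain ⟨φ, h1, -⟩ := exists_dual_of_notMem (U := ⊥) (fun e => h ((Submodule.mem_bot k).1 e))
  exact ⟨φ, a, ha, b, hb, c, hc, h1⟩

theorem notMem_asc_of_tri {A : Subgroup Y} {v : V} {φ : V →ₗ[k] k} {a b c : Y} (ha : a ∈ A) (hb : b ∈ A) (hc : c ∈ A)
    (h : tri ρ φ v a b c ≠ 0) : v ∉ asc ρ A 3 := fun e => h (by rw [tri, mem_asc_three.1 e c hc b hb a ha, map_zero])

variable [FiniteDimensional k V]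

theorem finrank_map_mkQ {U W : Submodule k V} (h : U ≤ W) : finrank k U + finrank k (W.map U.mkQ) = finrank k W := by
  have h1 := LinearMap.finrank_range_add_finrank_ker (U.mkQ.domRestrict W)
  rw [LinearMap.range_domRestrict, LinearMap.ker_domRestrict, Submodule.ker_mkQ,
    (Submodule.comapSubtypeEquivOfLe h).finrank_eq] at h1
  omega

/-- the orbit of a vector bounds a layer -/
theorem relIndex_le_of_vec [Finite k] {A D : Subgroup Y} {U W : Submodule k V} (hU : Inv ρ A U) (h : U ≤ W) {v : V}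
    (hv : ∀ a ∈ A, (ρ a - 1) v ∈ W) (hD : ∀ a ∈ A, (ρ a - 1) v ∈ U → a ∈ D) :
    D.relIndex A ≤ Nat.card k ^ (finrank k W - finrank k U) := by
  have h1 := finrank_map_mkQ h
  have : Finite (W.map U.mkQ) := Module.finite_of_finite k
  rw [show finrank k W - finrank k U = finrank k (W.map U.mkQ) by omega, ← Module.natCard_eq_pow_finrank]
  refine relIndex_le_card (fun a => ⟨_, Submodule.mem_map_of_mem (hv a a.2)⟩) fun a b e =>
    hD _ (mul_mem (inv_mem a.2) b.2) ?_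
  have h2 := hU _ (inv_mem a.2) _ (U.neg_mem ((Submodule.Quotient.eq U).1 (congrArg Subtype.val e)))
  simpa only [LinearMap.sub_apply, Module.End.one_apply, sub_sub_sub_cancel_right, neg_sub, map_sub, rho_mul,
    rho_inv_apply] using h2

/-- the orbit of a functional bounds a layer -/
theorem relIndex_le_of_dual [Finite k] {A D : Subgroup Y} {P W : Submodule k V} (h : P ≤ W) (φ : V →ₗ[k] k)
    (hW : ∀ w ∈ W, AddOn A fun a => φ ((ρ a - 1) w)) (hP : ∀ a ∈ A, ∀ u ∈ P, φ ((ρ a - 1) u) = 0)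
    (hD : ∀ a ∈ A, (∀ w ∈ W, φ ((ρ a - 1) w) = 0) → a ∈ D) :
    D.relIndex A ≤ Nat.card k ^ (finrank k W - finrank k P) := by
  have h1 := Subspace.finrank_add_finrank_dualAnnihilator_eq (P.submoduleOf W)
  rw [(Submodule.submoduleOfEquivOfLe h).finrank_eq] at h1
  have : Finite (P.submoduleOf W).dualAnnihilator := Module.finite_of_finite k
  rw [show finrank k W - finrank k P = finrank k (P.submoduleOf W).dualAnnihilator by omega,
    ← Module.natCard_eq_pow_finrank (K := k) (V := (P.submoduleOf W).dualAnnihilator)]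
  refine relIndex_le_card (fun a => ⟨φ ∘ₗ (ρ a - 1) ∘ₗ W.subtype, (Submodule.mem_dualAnnihilator _).2
    fun u hu => hP a a.2 u hu⟩) fun a b e => hD _ (mul_mem (inv_mem a.2) b.2) fun w hw => ?_
  have h2 : φ ((ρ a - 1) w) = φ ((ρ b - 1) w) := LinearMap.congr_fun (congrArg Subtype.val e) ⟨w, hw⟩
  refine (hW w hw _ (inv_mem a.2) _ b.2).trans ((congrArg (· + _) ((hW w hw).inv a.2)).trans ?_)
  beta_reduce
  rw [h2, neg_add_cancel]

theorem relIndex_trad_le_vec [Finite k] {A : Subgroup Y} (hA : ∀ a ∈ A, ∀ b ∈ A, a * b = b * a) {v : V}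
    (hv : v ∈ asc ρ A 4) (φ : V →ₗ[k] k) :
    (trad hv φ).relIndex A ≤ Nat.card k ^ (finrank k (asc ρ A 3) - finrank k (asc ρ A 2)) :=
  relIndex_le_of_vec (inv_asc Subgroup.le_normalizer 2) (asc_le_succ A 2) (fun _ ha => asc_step hv ha) fun a ha h =>
    mem_trad.2 ⟨ha, fun b hb c hc => by
      rw [tri_swap₁ (hA a ha b hb), tri_swap₂ (hA a ha c hc), tri,
        (Submodule.mem_bot k).1 (asc_step (asc_step h hc) hb), map_zero]⟩

theorem addOn_asc_two {A : Subgroup Y} (φ : V →ₗ[k] k) : ∀ w ∈ asc ρ A 2, AddOn A fun a => φ ((ρ a - 1) w) :=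
  fun _ hw => addOn_asc (i := 0) hw φ fun u hu => by rw [(Submodule.mem_bot k).1 hu, map_zero]

theorem relIndex_trad_le_dual [Finite k] {A : Subgroup Y} {v : V} (hv : v ∈ asc ρ A 4) (φ : V →ₗ[k] k)
    {P : Submodule k V} (h : P ≤ asc ρ A 2) (hP : ∀ a ∈ A, ∀ u ∈ P, φ ((ρ a - 1) u) = 0) :
    (trad hv φ).relIndex A ≤ Nat.card k ^ (finrank k (asc ρ A 2) - finrank k P) :=
  relIndex_le_of_dual h φ (addOn_asc_two φ) hP fun _ ha h =>
    mem_trad.2 ⟨ha, fun _ hb _ hc => h _ (asc_step (asc_step hv hc) hb)⟩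

theorem asc_one_kill {A : Subgroup Y} (φ : V →ₗ[k] k) : ∀ a ∈ A, ∀ u ∈ asc ρ A 1, φ ((ρ a - 1) u) = 0 :=
  fun _ ha _ hu => by rw [(Submodule.mem_bot k).1 (asc_step hu ha), map_zero]

theorem le_of_pow_le_pow_card [Finite k] {n m : ℕ} (h : Nat.card k ^ n ≤ Nat.card k ^ m) : n ≤ m :=
  (Nat.pow_le_pow_iff_right Finite.one_lt_card).1 h

/-- **G4.** `cod A ≥ 1 + 2 rank T` -/
theorem two_mul_rank_lt_cod [Finite k] {A : Subgroup Y} (hA : ∀ a ∈ A, ∀ b ∈ A, a * b = b * a) {v : V}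
    (hv : v ∈ asc ρ A 4) (h3 : v ∉ asc ρ A 3) (φ : V →ₗ[k] k) {n : ℕ} (hn : Nat.card k ^ n ≤ (trad hv φ).relIndex A) :
    2 * n + 1 ≤ cod ρ A := by
  have h1 := le_of_pow_le_pow_card (hn.trans (relIndex_trad_le_vec hA hv φ))
  have h2 := le_of_pow_le_pow_card (hn.trans (relIndex_trad_le_dual hv φ (asc_le_succ A 1) (asc_one_kill φ)))
  have l1 : finrank k (asc ρ A 1) ≤ finrank k (asc ρ A 2) := Submodule.finrank_mono (asc_le_succ A 1)
  have l2 : finrank k (asc ρ A 2) ≤ finrank k (asc ρ A 3) := Submodule.finrank_mono (asc_le_succ A 2)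
  have l3 : finrank k (asc ρ A 3) < finrank k (asc ρ A 4) :=
    Submodule.finrank_lt_finrank_of_lt (SetLike.lt_iff_le_and_exists.2 ⟨asc_le_succ A 3, v, hv, h3⟩)
  have h4 := Submodule.finrank_le (asc ρ A 4)
  have h5 := cod_add (ρ := ρ) A
  rw [← asc_one] at h5
  omega

/-- **G4.** The trilinear forms of an offender have a non-trivial radical. -/
theorem _root_.Cfsg.Agent.TwoF.Off.exists_rad {p : ℕ} [Fact p.Prime] {V : Type*} [AddCommGroup V] [Module (ZMod p) V]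
    [Finite V] {ρ : Representation (ZMod p) Y V} [Finite Y] {A : Subgroup Y} (hA : Off p ρ A) {v : V}
    (hv : v ∈ asc ρ A 4) (h3 : v ∉ asc ρ A 3) (φ : V →ₗ[ZMod p] ZMod p) :
    ∃ a ∈ A, a ≠ 1 ∧ ∀ b ∈ A, ∀ c ∈ A, tri ρ φ v a b c = 0 := by
  by_contra h
  push Not at h
  obtain ⟨r, -, h1, h2⟩ := hA.exists_card
  have h4 : trad hv φ = ⊥ := (Subgroup.eq_bot_iff_forall _).2 fun a ha => by
    by_contra e
    obtain ⟨b, hb, c, hc, h5⟩ := h a ha.1 e
    exact h5 ((mem_trad.1 ha).2 b hb c hc)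
  have := two_mul_rank_lt_cod (fun a ha b hb => elemAb_comm hA.1 ha hb) hv h3 φ (n := r)
    (by rw [h4, Subgroup.relIndex_bot_left, Nat.card_zmod, h1])
  omega

/-- vectors fixed by `B ≤ A` that are independent modulo the fixed space of `A` -/
theorem cod_add_le_of_indep {ι : Type*} [Fintype ι] {A B : Subgroup Y} (hB : B ≤ A) (w : ι → V)
    (hw : ∀ i, w i ∈ fx ρ B) (h : ∀ t : ι → k, ∑ i, t i • w i ∈ fx ρ A → ∀ i, t i = 0) :
    cod ρ B + Fintype.card ι ≤ cod ρ A := by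
  have h1 := finrank_map_mkQ (fx_anti (ρ := ρ) hB)
  have h2 : Fintype.card ι ≤ finrank k ((fx ρ B).map (fx ρ A).mkQ) := by
    refine ((Fintype.linearIndependent_iff (v := fun i =>
      (⟨_, Submodule.mem_map_of_mem (hw i)⟩ : (fx ρ B).map (fx ρ A).mkQ))).2 fun t ht => h t ?_).fintype_card_le_finrank
    have h3 := congrArg Subtype.val ht
    rw [← Submodule.Quotient.mk_eq_zero, ← Submodule.mkQ_apply, map_sum]
    simpa only [map_smul, AddSubmonoidClass.coe_finsetSum, SetLike.val_smul, ZeroMemClass.coe_zero] using h3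
  have h4 := cod_add (ρ := ρ) A
  have h5 := cod_add (ρ := ρ) B
  omega

/-! ### characteristic two -/

section Two

variable [CharP k 2] {A : Subgroup Y}

omit [FiniteDimensional k V] in
theorem two_eq_zero' : (2 : k) = 0 := by exact_mod_cast CharP.cast_eq_zero k 2

omit [FiniteDimensional k V] [CharP k 2] in
theorem mem_fx_zpowers' {a : Y} {v : V} : v ∈ fx ρ (Subgroup.zpowers a) ↔ (ρ a - 1) v = 0 :=
  mem_fx_zpowers.trans sub_eq_zero.symm

/-- **G4**, `p = 2`: an element that does not centralise `I² V` -/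
theorem cod_add_three_le (hA : IsElementaryAbelian 2 A) {a b c : Y} (ha : a ∈ A) (hb : b ∈ A) (hc : c ∈ A) {v : V}
    (hv : (ρ a - 1) ((ρ b - 1) ((ρ c - 1) v)) ≠ 0) : cod ρ (Subgroup.zpowers a) + 3 ≤ cod ρ A := by
  have xx := sub_one_sq_of_two (ρ := ρ) hA two_eq_zero' ha
  have yy := sub_one_sq_of_two (ρ := ρ) hA two_eq_zero' hb
  have zz := sub_one_sq_of_two (ρ := ρ) hA two_eq_zero' hc
  have yx := sub_one_comm (ρ := ρ) (elemAb_comm hA hb ha)
  have zx := sub_one_comm (ρ := ρ) (elemAb_comm hA hc ha)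
  have zy := sub_one_comm (ρ := ρ) (elemAb_comm hA hc hb)
  refine cod_add_le_of_indep ((Subgroup.zpowers_le).2 ha)
    ![(ρ a - 1) v, (ρ a - 1) ((ρ b - 1) v), (ρ a - 1) ((ρ c - 1) v)]
    (fun i => by fin_cases i <;> exact mem_fx_zpowers'.2 (xx _)) fun t ht => ?_
  have h2 : (ρ b - 1) _ = 0 := sub_eq_zero.2 (ht b hb)
  have h3 : (ρ c - 1) _ = 0 := sub_eq_zero.2 (ht c hc)
  generalize ρ a - 1 = x at *
  generalize ρ b - 1 = y at *
  generalize ρ c - 1 = z at *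
  have e0 := congrArg y h3
  simp [Fin.sum_univ_succ, yy, zz, yx, zx, zy, hv] at e0
  simp [Fin.sum_univ_succ, yy, zz, yx, zx, zy, hv, e0] at h2 h3
  intro i
  fin_cases i <;> assumption

/-- **G4**, `p = 2`: an element `d` that centralises `I² v` -/
theorem cod_add_four_le (hA : IsElementaryAbelian 2 A) {a b c d : Y} (ha : a ∈ A) (hb : b ∈ A) (hc : c ∈ A)
    (hd : d ∈ A) {v : V} (hv : (ρ a - 1) ((ρ b - 1) ((ρ c - 1) v)) ≠ 0)
    (h : ∀ e ∈ A, ∀ f ∈ A, (ρ d - 1) ((ρ e - 1) ((ρ f - 1) v)) = 0) : cod ρ (Subgroup.zpowers d) + 4 ≤ cod ρ A := by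
  have xx := sub_one_sq_of_two (ρ := ρ) hA two_eq_zero' ha
  have yy := sub_one_sq_of_two (ρ := ρ) hA two_eq_zero' hb
  have zz := sub_one_sq_of_two (ρ := ρ) hA two_eq_zero' hc
  have ww := sub_one_sq_of_two (ρ := ρ) hA two_eq_zero' hd
  have yx := sub_one_comm (ρ := ρ) (elemAb_comm hA hb ha)
  have zx := sub_one_comm (ρ := ρ) (elemAb_comm hA hc ha)
  have zy := sub_one_comm (ρ := ρ) (elemAb_comm hA hc hb)
  have wx := sub_one_comm (ρ := ρ) (elemAb_comm hA hd ha)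
  have wy := sub_one_comm (ρ := ρ) (elemAb_comm hA hd hb)
  have wz := sub_one_comm (ρ := ρ) (elemAb_comm hA hd hc)
  have wxy := h a ha b hb
  have wxz := h a ha c hc
  have wyz := h b hb c hc
  -- a fourth vector
  have key : ∀ u, (ρ d - 1) u = 0 → (∀ s t₁ t₂ t₃ : k, s • u + (t₁ • (ρ a - 1) ((ρ b - 1) v) +
      (t₂ • (ρ a - 1) ((ρ c - 1) v) + t₃ • (ρ b - 1) ((ρ c - 1) v))) ∈ fx ρ A → s = 0) →
      cod ρ (Subgroup.zpowers d) + 4 ≤ cod ρ A := fun u hu h1 => by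
    refine cod_add_le_of_indep ((Subgroup.zpowers_le).2 hd)
      ![u, (ρ a - 1) ((ρ b - 1) v), (ρ a - 1) ((ρ c - 1) v), (ρ b - 1) ((ρ c - 1) v)]
      (fun i => by fin_cases i <;> exact mem_fx_zpowers'.2 (by assumption)) fun t ht => ?_
    have e0 : t 0 = 0 := h1 _ (t 1) (t 2) (t 3) (by simpa [Fin.sum_univ_succ] using ht)
    have h1 : (ρ a - 1) _ = 0 := sub_eq_zero.2 (ht a ha)
    have h2 : (ρ b - 1) _ = 0 := sub_eq_zero.2 (ht b hb)
    have h3 : (ρ c - 1) _ = 0 := sub_eq_zero.2 (ht c hc)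
    generalize ρ a - 1 = x at *
    generalize ρ b - 1 = y at *
    generalize ρ c - 1 = z at *
    simp [Fin.sum_univ_succ, xx, yy, zz, yx, zx, zy, hv, e0] at h1 h2 h3
    intro i
    fin_cases i <;> assumption
  by_contra h1
  have h2 : ∃ s t₁ t₂ t₃ : k, s • (ρ d - 1) v + (t₁ • (ρ a - 1) ((ρ b - 1) v) +
      (t₂ • (ρ a - 1) ((ρ c - 1) v) + t₃ • (ρ b - 1) ((ρ c - 1) v))) ∈ fx ρ A ∧ s ≠ 0 := by
    by_contra e
    push Not at e
    exact h1 (key _ (ww v) e)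
  obtain ⟨s, t₁, t₂, t₃, h2, hs⟩ := h2
  have e1 : (ρ a - 1) _ = 0 := sub_eq_zero.2 (h2 a ha)
  have e2 : (ρ b - 1) _ = 0 := sub_eq_zero.2 (h2 b hb)
  have hfx : ∀ u ∈ fx ρ A, (ρ b - 1) u = 0 ∧ (ρ c - 1) u = 0 := fun u hu =>
    ⟨sub_eq_zero.2 (hu b hb), sub_eq_zero.2 (hu c hc)⟩
  generalize ρ a - 1 = x at *
  generalize ρ b - 1 = y at *
  generalize ρ c - 1 = z at *
  generalize ρ d - 1 = w at *
  simp only [map_add, map_smul, xx, yy, yx, map_zero, smul_zero, zero_add, add_zero, ← wx, ← wy] at e1 e2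
  by_cases h3 : t₃ = 0
  · rw [h3, zero_smul, add_zero, smul_eq_zero] at e1
    refine h1 (key (x v) (e1.resolve_left hs) fun s' _ _ _ e => ?_)
    have := congrArg y (hfx _ e).2
    simpa [yy, zz, yx, zx, zy, hv] using this
  · refine h1 (key (t₃ • y v - t₂ • x v) (smul_right_injective V hs ?_) fun s' _ _ _ e => ?_)
    · show s • w _ = s • (0 : V)
      rw [map_sub, map_smul, map_smul, smul_sub, smul_comm s, smul_comm s, eq_neg_of_add_eq_zero_left e1,
        eq_neg_of_add_eq_zero_left e2, smul_neg, smul_neg, smul_comm, sub_self, smul_zero]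
    · have := congrArg x (hfx _ e).2
      simpa [xx, yy, zz, yx, zx, zy, hv, h3] using this

/-- **G4**, `p = 2`: every element of a non-cubic group -/
theorem cod_add_three_le_of_not_cub (hA : IsElementaryAbelian 2 A) (h : ¬ Cub ρ A) {d : Y} (hd : d ∈ A) :
    cod ρ (Subgroup.zpowers d) + 3 ≤ cod ρ A := by
  obtain ⟨v, -, hv⟩ := SetLike.not_le_iff_exists.1 fun e => h (cub_iff_asc.2 (top_le_iff.1 e))
  rw [mem_asc_three] at hv
  push Not at hv
  obtain ⟨c, hc, b, hb, a, ha, hv⟩ := hv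
  by_cases h1 : ∀ e ∈ A, ∀ f ∈ A, (ρ d - 1) ((ρ e - 1) ((ρ f - 1) v)) = 0
  · have := cod_add_four_le hA ha hb hc hd hv h1
    omega
  · push Not at h1
    obtain ⟨e, he, f, hf, h1⟩ := h1
    exact cod_add_three_le hA hd he hf h1

omit [FiniteDimensional k V] in
theorem eight_le_relIndex [Finite A] (hA : IsElementaryAbelian 2 A) {v : V} (hv : v ∈ asc ρ A 4) {φ : V →ₗ[k] k}
    {a b c : Y} (ha : a ∈ A) (hb : b ∈ A) (hc : c ∈ A) (h : tri ρ φ v a b c ≠ 0) : 8 ≤ (trad hv φ).relIndex A := by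
  have alt : ∀ e ∈ A, ∀ f ∈ A, tri ρ φ v e e f = 0 ∧ tri ρ φ v e f e = 0 := fun e he f hf => by
    have h1 : tri ρ φ v e e f = 0 := by rw [tri, sub_one_sq_of_two hA two_eq_zero' he, map_zero]
    exact ⟨h1, by rw [tri_swap₂ (elemAb_comm hA hf he), h1]⟩
  have hb' : tri ρ φ v b a c ≠ 0 := by rwa [tri_swap₁ (elemAb_comm hA hb ha)]
  have hc' : tri ρ φ v c a b ≠ 0 := by rwa [tri_swap₁ (elemAb_comm hA hc ha), tri_swap₂ (elemAb_comm hA hc hb)]
  have h1 := card_le_relIndex (D := trad hv φ) (fun i : Fin 2 × Fin 2 × Fin 2 =>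
    (⟨a ^ i.1.val * (b ^ i.2.1.val * c ^ i.2.2.val), mul_mem (pow_mem ha _) (mul_mem (pow_mem hb _) (pow_mem hc _))⟩ : A))
    fun i j e => by
      have key : ∀ e' ∈ A, ∀ f ∈ A, (i.1.val : k) * tri ρ φ v a e' f + ((i.2.1.val : k) * tri ρ φ v b e' f +
          (i.2.2.val : k) * tri ρ φ v c e' f) = (j.1.val : k) * tri ρ φ v a e' f + ((j.2.1.val : k) * tri ρ φ v b e' f +
          (j.2.2.val : k) * tri ρ φ v c e' f) := fun e' he' f hf => by
        have h2 := tri_addOn hv φ he' hf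
        have h3 : ∀ i : Fin 2 × Fin 2 × Fin 2, tri ρ φ v (a ^ i.1.val * (b ^ i.2.1.val * c ^ i.2.2.val)) e' f =
            (i.1.val : k) * tri ρ φ v a e' f + ((i.2.1.val : k) * tri ρ φ v b e' f +
              (i.2.2.val : k) * tri ρ φ v c e' f) := fun i =>
          (h2 _ (pow_mem ha _) _ (mul_mem (pow_mem hb _) (pow_mem hc _))).trans (congrArg₂ _ (h2.pow ha _)
            ((h2 _ (pow_mem hb _) _ (pow_mem hc _)).trans (congrArg₂ _ (h2.pow hb _) (h2.pow hc _))))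
        have h4 := h2 _ (mul_mem (pow_mem ha i.1.val) (mul_mem (pow_mem hb i.2.1.val) (pow_mem hc i.2.2.val))) _ e.1
        beta_reduce at h4
        rw [(mem_trad.1 e).2 e' he' f hf, add_zero, mul_inv_cancel_left, h3, h3] at h4
        exact h4.symm
      have inj : ∀ m n : Fin 2, (m.val : k) = n.val → m = n := fun m n e => by
        fin_cases m <;> fin_cases n <;> simp at e ⊢
      have e1 := key b hb c hc
      have e2 := key a ha c hc
      have e3 := key a ha b hb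
      simp only [(alt a ha _ hb).1, (alt a ha _ hc).1, (alt b hb _ hc).1, (alt b hb _ ha).2, (alt c hc _ ha).2,
        (alt c hc _ hb).2, mul_zero, add_zero, zero_add] at e1 e2 e3
      exact Prod.ext (inj _ _ (mul_right_cancel₀ h e1))
        (Prod.ext (inj _ _ (mul_right_cancel₀ hb' e2)) (inj _ _ (mul_right_cancel₀ hc' e3)))
  simpa using h1

end Two

/-! ### rank four in characteristic two -/

section Four

variable {V : Type*} [AddCommGroup V] [Module (ZMod 2) V] [Finite V] {ρ : Representation (ZMod 2) Y V}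
  {A : Subgroup Y} [Finite A]

theorem three_le_of_eight {n : ℕ} (h : 8 ≤ Nat.card (ZMod 2) ^ n) : 3 ≤ n :=
  le_of_pow_le_pow_card (k := ZMod 2) (by rwa [Nat.card_zmod] at h ⊢)

theorem four_le_of_sixteen {n : ℕ} (h : 16 ≤ Nat.card (ZMod 2) ^ n) : 4 ≤ n :=
  le_of_pow_le_pow_card (k := ZMod 2) (by rwa [Nat.card_zmod] at h ⊢)

theorem asc_four_eq_top (hA : IsElementaryAbelian 2 A) (h8 : cod ρ A ≤ 8) : asc ρ A 4 = ⊤ := by
  by_contra h
  obtain ⟨v, h5, h4⟩ : ∃ v ∈ asc ρ A 5, v ∉ asc ρ A 4 := SetLike.exists_of_lt (asc_lt (elemAb_isPGroup hA) h)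
  have hv := h4
  rw [mem_asc_four] at hv
  push Not at hv
  obtain ⟨d, hd, c, hc, b, hb, a, ha, hv⟩ := hv
  obtain ⟨φ, h1, -⟩ := exists_dual_of_notMem (U := ⊥) (fun e => hv ((Submodule.mem_bot (ZMod 2)).1 e))
  have h2 := eight_le_relIndex hA (asc_step h5 hd) (φ := φ) ha hb hc h1
  have l2 := three_le_of_eight (h2.trans (relIndex_trad_le_vec (fun a ha b hb => elemAb_comm hA ha hb) _ φ))
  have l1 := three_le_of_eight (h2.trans (relIndex_trad_le_dual _ φ (asc_le_succ A 1) (asc_one_kill φ)))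
  have l4 : finrank (ZMod 2) (asc ρ A 4) < finrank (ZMod 2) (asc ρ A 5) :=
    Submodule.finrank_lt_finrank_of_lt (SetLike.lt_iff_le_and_exists.2 ⟨asc_le_succ A 4, v, h5, h4⟩)
  have l3 : finrank (ZMod 2) (asc ρ A 3) + Fintype.card (Fin 2) ≤ finrank (ZMod 2) (asc ρ A 4) := by
    rw [← finrank_map_mkQ (asc_le_succ (ρ := ρ) A 3)]
    refine Nat.add_le_add_left ((Fintype.linearIndependent_iff (v := ![
      (⟨_, Submodule.mem_map_of_mem (asc_step h5 hd)⟩ : (asc ρ A 4).map (asc ρ A 3).mkQ),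
      ⟨_, Submodule.mem_map_of_mem (asc_step h5 hc)⟩])).2 fun t ht => ?_).fintype_card_le_finrank _
    have h3 : t 0 • (ρ d - 1) v + t 1 • (ρ c - 1) v ∈ asc ρ A 3 := by
      rw [← Submodule.Quotient.mk_eq_zero, ← Submodule.mkQ_apply, map_add, map_smul, map_smul]
      simpa [Fin.sum_univ_succ] using congrArg Subtype.val ht
    have e1 := mem_asc_three.1 h3 c hc b hb a ha
    have e2 := mem_asc_three.1 h3 d hd b hb a ha
    simp only [map_add, map_smul, sub_one_sq_of_two hA two_eq_zero' hc, sub_one_sq_of_two hA two_eq_zero' hd,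
      smul_zero, add_zero, zero_add, sub_one_comm (ρ := ρ) (elemAb_comm hA hd hc), smul_eq_zero, hv,
      or_false] at e1 e2
    intro i
    fin_cases i <;> assumption
  have h6 := Submodule.finrank_le (asc ρ A 5)
  have h7 := cod_add (ρ := ρ) A
  rw [← asc_one] at h7
  rw [Fintype.card_fin] at l3
  omega

theorem eq_of_mem_trad (hA : IsElementaryAbelian 2 A) (hc : Nat.card A = 16) {v : V} (hv : v ∈ asc ρ A 4)
    {φ : V →ₗ[ZMod 2] ZMod 2} (h : ∃ a ∈ A, ∃ b ∈ A, ∃ c ∈ A, tri ρ φ v a b c ≠ 0) {d e : Y} (hd : d ∈ trad hv φ)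
    (h1 : d ≠ 1) (he : e ∈ trad hv φ) (h2 : e ≠ 1) : e = d := by
  obtain ⟨a, ha, b, hb, c, hc', h⟩ := h
  have h3 := eight_le_relIndex hA hv ha hb hc' h
  have h4 := PLocal.PConstrained.card_mul_relIndex_eq (show trad hv φ ≤ A from fun _ h => h.1)
  have : Finite (trad hv φ) := Finite.of_injective _ (Subgroup.inclusion_injective (show trad hv φ ≤ A from fun _ h => h.1))
  by_contra h5
  have h6 := Nat.card_le_card_of_injective (![1, ⟨d, hd⟩, ⟨e, he⟩] : Fin 3 → trad hv φ) (by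
    intro i j
    fin_cases i <;> fin_cases j <;> simp [h1, h2, h5, h1.symm, h2.symm, Ne.symm h5, Subtype.ext_iff])
  rw [Nat.card_eq_fintype_card, Fintype.card_fin] at h6
  rw [hc] at h4
  nlinarith

theorem trad_same_vec (hA : IsElementaryAbelian 2 A) (hc : Nat.card A = 16) (h8 : cod ρ A ≤ 8) {v : V}
    (hv : v ∈ asc ρ A 4) {φ : V →ₗ[ZMod 2] ZMod 2} (h : ∃ a ∈ A, ∃ b ∈ A, ∃ c ∈ A, tri ρ φ v a b c ≠ 0) {d : Y}
    (hd : d ∈ trad hv φ) (h1 : d ≠ 1) (ψ : V →ₗ[ZMod 2] ZMod 2) : d ∈ trad hv ψ := by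
  refine mem_trad.2 ⟨hd.1, fun b hb c hc' => ?_⟩
  by_contra h2
  have hcm := fun a ha b hb => elemAb_comm hA (a := a) (b := b) ha hb
  have l2 := relIndex_le_of_vec (D := ⊥) (inv_asc Subgroup.le_normalizer 2) (asc_le_succ A 2)
    (fun _ ha => asc_step hv ha) fun a ha h3 => by
      have h4 : ∀ χ, a ∈ trad hv χ := fun χ => mem_trad.2 ⟨ha, fun b hb c hc => by
        rw [tri_swap₁ (hcm a ha b hb), tri_swap₂ (hcm a ha c hc), tri,
          (Submodule.mem_bot (ZMod 2)).1 (asc_step (asc_step h3 hc) hb), map_zero]⟩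
      by_contra h5
      exact h2 ((mem_trad.1 (eq_of_mem_trad hA hc hv h hd h1 (h4 φ) h5 ▸ h4 ψ)).2 b hb c hc')
  rw [Subgroup.relIndex_bot_left, hc] at l2
  replace l2 : 4 ≤ finrank (ZMod 2) (asc ρ A 3) - finrank (ZMod 2) (asc ρ A 2) := four_le_of_sixteen l2
  have hu : (ρ d - 1) ((ρ b - 1) v) ∈ asc ρ A 2 := asc_step (asc_step hv hb) hd.1
  have hu' : (ρ d - 1) ((ρ b - 1) v) ∉ asc ρ A 1 := fun e => h2 (by
    rw [tri_swap₂ (hcm b hb c hc'), tri_swap₁ (hcm d hd.1 c hc'), tri,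
      (Submodule.mem_bot (ZMod 2)).1 (asc_step e hc'), map_zero])
  obtain ⟨a₀, ha₀, b₀, hb₀, c₀, hc₀, h0⟩ := h
  have l1 := three_le_of_eight ((eight_le_relIndex hA hv ha₀ hb₀ hc₀ h0).trans (relIndex_trad_le_dual hv φ
    (P := asc ρ A 1 ⊔ Submodule.span (ZMod 2) {(ρ d - 1) ((ρ b - 1) v)})
    (sup_le (asc_le_succ A 1) ((Submodule.span_singleton_le_iff_mem _ _).2 hu)) fun a ha u hu => by
      obtain ⟨u₁, h3, u₂, h4, rfl⟩ := Submodule.mem_sup.1 hu
      obtain ⟨t, rfl⟩ := Submodule.mem_span_singleton.1 h4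
      have h5 := (mem_trad.1 hd).2 a ha b hb
      rw [tri_swap₁ (hcm d hd.1 a ha), tri] at h5
      rw [map_add, map_add, asc_one_kill φ a ha _ h3, map_smul, map_smul, h5, smul_zero, add_zero]))
  have l0 : finrank (ZMod 2) (asc ρ A 1) <
      finrank (ZMod 2) ↥(asc ρ A 1 ⊔ Submodule.span (ZMod 2) {(ρ d - 1) ((ρ b - 1) v)}) :=
    Submodule.finrank_lt_finrank_of_lt (SetLike.lt_iff_le_and_exists.2 ⟨le_sup_left, _,
      Submodule.mem_sup_right (Submodule.mem_span_singleton_self _), hu'⟩)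
  have l3 : finrank (ZMod 2) (asc ρ A 3) < finrank (ZMod 2) (asc ρ A 4) :=
    Submodule.finrank_lt_finrank_of_lt (SetLike.lt_iff_le_and_exists.2 ⟨asc_le_succ A 3, v, hv,
      notMem_asc_of_tri ha₀ hb₀ hc₀ h0⟩)
  have h6 := Submodule.finrank_le (asc ρ A 4)
  have h7 := cod_add (ρ := ρ) A
  rw [← asc_one] at h7
  omega

theorem trad_same_dual (hA : IsElementaryAbelian 2 A) (hc : Nat.card A = 16) (h8 : cod ρ A ≤ 8) {v : V}
    (hv : v ∈ asc ρ A 4) {φ : V →ₗ[ZMod 2] ZMod 2} (h : ∃ a ∈ A, ∃ b ∈ A, ∃ c ∈ A, tri ρ φ v a b c ≠ 0) {d : Y}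
    (hd : d ∈ trad hv φ) (h1 : d ≠ 1) {w : V} (hw : w ∈ asc ρ A 4) : d ∈ trad hw φ := by
  refine mem_trad.2 ⟨hd.1, fun b hb c hc' => ?_⟩
  by_contra h2
  have l1 := relIndex_le_of_dual (D := ⊥) (asc_le_succ A 1) φ (addOn_asc_two φ) (asc_one_kill φ) fun a ha h3 => by
    have h4 : ∀ u (hu : u ∈ asc ρ A 4), a ∈ trad hu φ := fun u hu =>
      mem_trad.2 ⟨ha, fun _ hb _ hc => h3 _ (asc_step (asc_step hu hc) hb)⟩
    by_contra h5
    exact h2 ((mem_trad.1 (eq_of_mem_trad hA hc hv h hd h1 (h4 v hv) h5 ▸ h4 w hw)).2 b hb c hc')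
  rw [Subgroup.relIndex_bot_left, hc] at l1
  replace l1 : 4 ≤ finrank (ZMod 2) (asc ρ A 2) - finrank (ZMod 2) (asc ρ A 1) := four_le_of_sixteen l1
  obtain ⟨a₀, ha₀, b₀, hb₀, c₀, hc₀, h0⟩ := h
  have l2 := three_le_of_eight ((eight_le_relIndex hA hv ha₀ hb₀ hc₀ h0).trans
    (relIndex_trad_le_vec (fun a ha b hb => elemAb_comm hA ha hb) hv φ))
  have l3 : finrank (ZMod 2) (asc ρ A 3) + Fintype.card (Fin 2) ≤ finrank (ZMod 2) (asc ρ A 4) := by
    rw [← finrank_map_mkQ (asc_le_succ (ρ := ρ) A 3)]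
    refine Nat.add_le_add_left ((Fintype.linearIndependent_iff (v := ![
      (⟨_, Submodule.mem_map_of_mem hv⟩ : (asc ρ A 4).map (asc ρ A 3).mkQ),
      ⟨_, Submodule.mem_map_of_mem hw⟩])).2 fun t ht => ?_).fintype_card_le_finrank _
    have h3 : t 0 • v + t 1 • w ∈ asc ρ A 3 := by
      rw [← Submodule.Quotient.mk_eq_zero, ← Submodule.mkQ_apply, map_add, map_smul, map_smul]
      simpa [Fin.sum_univ_succ] using congrArg Subtype.val ht
    have h4 : ∀ a ∈ A, ∀ b ∈ A, ∀ c ∈ A, t 0 * tri ρ φ v a b c + t 1 * tri ρ φ w a b c = 0 := fun a ha b hb c hc => by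
      have := congrArg φ (mem_asc_three.1 h3 c hc b hb a ha)
      simpa only [tri, map_add, map_smul, map_zero, smul_eq_mul] using this
    have e1 := h4 d hd.1 b hb c hc'
    rw [(mem_trad.1 hd).2 b hb c hc', mul_zero, zero_add] at e1
    replace e1 := (mul_eq_zero.1 e1).resolve_right h2
    have e0 := h4 a₀ ha₀ b₀ hb₀ c₀ hc₀
    rw [e1, zero_mul, add_zero] at e0
    replace e0 := (mul_eq_zero.1 e0).resolve_right h0
    intro i
    fin_cases i <;> assumption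
  have h6 := Submodule.finrank_le (asc ρ A 4)
  have h7 := cod_add (ρ := ρ) A
  rw [← asc_one] at h7
  rw [Fintype.card_fin] at l3
  omega

/-- **G4**, `p = 2`, rank four: a non-cubic offender contains a unique involution `d` that centralises `I² V`; it is fixed
by the normaliser and `cod ⟨d⟩ ≤ 4`. -/
theorem rank_four (hA : IsElementaryAbelian 2 A) (hc : Nat.card A = 16) (h8 : cod ρ A ≤ 8) (hn : ¬ Cub ρ A) :
    ∃ d ∈ A, d ≠ 1 ∧ cod ρ (Subgroup.zpowers d) + 4 ≤ cod ρ A ∧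
      (∀ g ∈ Subgroup.normalizer (A : Set Y), g * d = d * g) ∧
      ∀ b ∈ A, ∀ c ∈ A, ∀ v, (ρ d - 1) ((ρ b - 1) ((ρ c - 1) v)) = 0 := by
  have h4 : ∀ v, v ∈ asc ρ A 4 := fun v => asc_four_eq_top hA h8 ▸ Submodule.mem_top
  obtain ⟨v₀, -, h3⟩ := exists_asc_four (elemAb_isPGroup hA) hn
  obtain ⟨φ₀, h0⟩ := exists_tri_ne h3
  obtain ⟨d, hd, h1⟩ : ∃ d ∈ trad (h4 v₀) φ₀, d ≠ 1 := by
    by_contra e
    push Not at e
    have := two_mul_rank_lt_cod (fun a ha b hb => elemAb_comm hA ha hb) (h4 v₀) h3 φ₀ (n := 4)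
      (by rw [(Subgroup.eq_bot_iff_forall _).2 e, Subgroup.relIndex_bot_left, Nat.card_zmod, hc]; norm_num)
    omega
  have h5 : ∀ v φ, d ∈ trad (h4 v) φ := fun v φ => by
    have h6 := trad_same_vec hA hc h8 _ h0 hd h1
    by_cases h7 : ∃ a ∈ A, ∃ b ∈ A, ∃ c ∈ A, tri ρ φ v₀ a b c ≠ 0
    · exact trad_same_dual hA hc h8 _ h7 (h6 φ) h1 _
    · push Not at h7
      obtain ⟨a, ha, b, hb, c, hc', h0'⟩ := id h0
      have h9 := trad_same_dual hA hc h8 _ ⟨a, ha, b, hb, c, hc', by rwa [tri_add_left, h7 a ha b hb c hc', zero_add]⟩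
        (h6 (φ + φ₀)) h1 (h4 v)
      have h10 := trad_same_dual hA hc h8 _ h0 hd h1 (h4 v)
      refine mem_trad.2 ⟨hd.1, fun b hb c hc => ?_⟩
      have := (mem_trad.1 h9).2 b hb c hc
      rwa [tri_add_left, (mem_trad.1 h10).2 b hb c hc, add_zero] at this
  have h6 : ∀ b ∈ A, ∀ c ∈ A, ∀ v, (ρ d - 1) ((ρ b - 1) ((ρ c - 1) v)) = 0 := fun b hb c hc v => by
    by_contra e
    obtain ⟨φ, h7, -⟩ := exists_dual_of_notMem (U := ⊥) (fun e' => e ((Submodule.mem_bot (ZMod 2)).1 e'))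
    exact h7 ((mem_trad.1 (h5 v φ)).2 b hb c hc)
  refine ⟨d, hd.1, h1, ?_, fun g hg => ?_, h6⟩
  · obtain ⟨a, ha, b, hb, c, hc', h0⟩ := h0
    exact cod_add_four_le hA ha hb hc' hd.1 (v := v₀) (fun e => h0 (by rw [tri, e, map_zero]))
      fun e he f hf => h6 e he f hf v₀
  · rw [← mul_inv_eq_iff_eq_mul]
    refine eq_of_mem_trad hA hc _ h0 hd h1 (mem_trad.2 ⟨(Subgroup.mem_normalizer_iff.1 hg d).1 hd.1,
      fun b hb c hc => ?_⟩) fun e => h1 (by simpa using e)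
    rw [show b = g * (g⁻¹ * b * g) * g⁻¹ by group, show c = g * (g⁻¹ * c * g) * g⁻¹ by group, tri, conj_sub_one,
      conj_sub_one, conj_sub_one, rho_inv_apply, rho_inv_apply,
      h6 _ (conj_mem_of_normalizer' hg hb) _ (conj_mem_of_normalizer' hg hc), map_zero, map_zero]

end Four

end Cfsg.Agent.TwoF.Gen
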